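import Cfsg.Agent.J2T.N

/-! Groups of type `J₃`: the normalizer of the elementary abelian group of order 16. -/

set_option autoImplicit false
set_option linter.unusedSectionVars false

namespace Cfsg.Agent.J2T

open Subgroup Cfsg.Agent.H10 Cfsg.Agent.JR
open scoped commutatorElement Pointwise

variable {G : Type*} [Group G] [Finite G]

theorem card_sup3 {N : Subgroup G} {x : G} {k : ℕ} (hN : Nat.card N = 2 ^ k) (ho : orderOf x = 3)
    (hx : x ∈ normalizer (N : Set G)) : Nat.card (N ⊔ zpowers x : Subgroup G) = 2 ^ k * 3 := by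
  rw [H1.card_sup_of_disjoint (zpowers_le.2 hx) (inf_eq_bot_of_coprime (by
    rw [hN, Nat.card_zpowers, ho]; exact Nat.Coprime.pow_left _ (by norm_num))), hN,
    Nat.card_zpowers, ho]

theorem dec3 {N : Subgroup G} {x y : G} (hx : x ∈ normalizer (N : Set G)) (hy : y ∈ N ⊔ zpowers x) :
    ∃ a ∈ N, ∃ i : ℤ, a * x ^ i = y :=
  let ⟨a, ha, _, ⟨i, rfl⟩, e⟩ := (H1.mem_sup_of_le_normalizer_left (zpowers_le.2 hx)).1 hy
  ⟨a, ha, i, e⟩

theorem conj_into {N : Subgroup G} {x y : G} {k : ℕ} (hN : Nat.card N = 2 ^ k) (ho : orderOf x = 3)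
    (hx : x ∈ normalizer (N : Set G)) (hy : y ∈ N ⊔ zpowers x) (h3 : y ^ 3 = 1) :
    ∃ a ∈ N, a * y * a⁻¹ ∈ zpowers x := by
  haveI : Fact (Nat.Prime 3) := ⟨Nat.prime_three⟩
  obtain ⟨c, hc, e⟩ := (syl_zp (mem_sup_right (mem_zpowers x)) ho (by
    rw [card_sup3 hN ho hx, Nat.mul_dvd_mul_iff_right (by norm_num)]
    exact fun e => absurd (Nat.prime_three.dvd_of_dvd_pow e) (by norm_num))).exists_le_conj
      (zpowers_le.2 hy) (pgrp_zp h3)
  obtain ⟨a, ha, i, rfl⟩ := dec3 hx hc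
  refine ⟨a⁻¹, inv_mem ha, ?_⟩
  have := mul_mem (mul_mem (zpow_mem_zpowers x i) (H1.mem_conj_smul.1 (e (mem_zpowers y))))
    (inv_mem (zpow_mem_zpowers x i))
  rwa [show x ^ i * ((a * x ^ i)⁻¹ * y * (a * x ^ i)) * (x ^ i)⁻¹ = a⁻¹ * y * a⁻¹⁻¹ by group] at this

theorem eq_one_of_23 {N : Subgroup G} {x y : G} {k : ℕ} (hN : Nat.card N = 2 ^ k)
    (ho : orderOf x = 3) (h1 : y ∈ N) (h2 : y ∈ zpowers x) : y = 1 :=
  mem_bot.1 ((inf_eq_bot_of_coprime (by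
    rw [hN, Nat.card_zpowers, ho]; exact Nat.Coprime.pow_left _ (by norm_num))).le ⟨h1, h2⟩)

abbrev NN (Q P : Subgroup G) (z s ρ : G) : Subgroup G := normalizer (AA Q P z s ρ : Set G)

namespace JD

variable {Q P : Subgroup G} {z s σ ρ t x y u a q g v w : G} (h : JD Q P z s σ ρ t)
include h

theorem inv : JD Q P z s σ⁻¹ ρ t :=
  { h with
    σC := inv_mem h.σC
    oσ := (orderOf_inv σ).trans h.oσ
    σρ := Commute.inv_left h.σρ }

theorem σU : σ ∈ normalizer (UU Q P z s ρ : Set G) :=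
  H1.le_normalizer_inf (A := NV z s ⊓ Ce ρ) (inf_le_left.trans h.M_norm)
    (inf_le_right.trans le_normalizer) ⟨centralizer_le_normalizer _ h.σC, mem_Ce.2 h.σρ⟩

theorem σt : σ * t ≠ t * σ := fun e => h.t1 (h.Vfix (h.fpf h.σC h.oσ h.tR e.symm) h.tρ)

theorem σ3 : σ ^ 3 = 1 := h.oσ ▸ pow_orderOf_eq_one σ

theorem σz : σ * z = z * σ := (Pr.mem_cV.1 h.σC).1

theorem σR : σ ∈ normalizer (RR Q P z s : Set G) := h.M_norm (centralizer_le_normalizer _ h.σC)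

theorem CV_eq : RR Q P z s ⊔ zpowers σ = CV z s :=
  eq_of_le_of_card_ge (sup_le h.l.R_le (zpowers_le.2 h.σC)) (by
    rw [card_sup3 (k := 6) h.cardR h.oσ h.σR, h.cardC]; norm_num)

theorem RA : RR Q P z s ≤ NN Q P z s ρ := fun r hr => mem_normalizer_of_conj_le fun a ha => by
  have := mul_mem (mem_sup_left (h.commR hr (h.AR ha)) : _ ∈ AA Q P z s ρ) ha
  rwa [commutatorElement_def, inv_mul_cancel_right] at this

theorem σA : σ ∈ NN Q P z s ρ := H1.le_normalizer_sup (A := zpowers σ)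
  (zpowers_le.2 (centralizer_le_normalizer _ h.σC)) (zpowers_le.2 h.σU) (mem_zpowers σ)

theorem ρN : ρ ∈ NN Q P z s ρ := h.ρA (mem_zpowers ρ)

theorem CA : CV z s ≤ NN Q P z s ρ := h.CV_eq ▸ sup_le h.RA (zpowers_le.2 h.σA)

theorem zA' : z ∈ AA Q P z s ρ := mem_sup_left Pr.z_mem

theorem qU (hq : q ∈ Q) (qs : q * s ≠ s * q) (hu : u ∈ UU Q P z s ρ)
    (e : q * u * q⁻¹ ∈ AA Q P z s ρ) : u = 1 :=
  h.UQ hu (h.memQ hq qs hu.1 (h.AQ (mul_mem e (inv_mem (mem_sup_right hu))) (by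
    rw [commutatorElement_def, mul_assoc, mul_assoc, ← mul_assoc u]
    exact mul_mem hq (h.wq.conj_mem (h.Rz hu.1) (inv_mem hq)))))

theorem NAz (hg : g ∈ NN Q P z s ρ) (e : g * z = z * g) : g ∈ CV z s := by
  have h1 := h.AQ ((hg s).1 (mem_sup_left Pr.t_mem)) (h.wq.conj_mem e h.l.tQ)
  rcases h.l.pr.mem_V.1 h1 with e' | e' | e' | e'
  · exact absurd (by simpa using e') h.wp.ne_one
  · rw [mul_inv_eq_iff_eq_mul, ← e] at e'
    exact absurd (mul_left_cancel e') h.l.ne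
  · exact Pr.mem_cV.2 ⟨e, mul_inv_eq_iff_eq_mul.1 e'⟩
  obtain ⟨q, hq, qs⟩ := h.l.pr.exists_q
  have h2 : g⁻¹ * q ∈ CV z s := Pr.mem_cV.2 ⟨Commute.mul_left (Commute.inv_left e) (h.wq.cent q hq),
    mul_inv_eq_iff_eq_mul.1 (by
      calc _ = g⁻¹ * (q * s * q⁻¹) * g := by group
        _ = _ := by rw [h.wq.conj_eq_of_ne hq h.l.tQ qs, ← e']; group)⟩
  have h3 : q ∈ NN Q P z s ρ := by simpa using mul_mem hg (h.CA h2)
  exact absurd (h.qU hq qs h.tU ((h3 t).1 h.tA)) h.t1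

theorem toU (hg : g ∈ NN Q P z s ρ) (e : g * z * g⁻¹ ∈ UU Q P z s ρ) (hv : v ∈ Vs z s) :
    g * v * g⁻¹ ∈ UU Q P z s ρ := by
  refine ⟨h.AR ((hg v).1 (mem_sup_left hv)), mem_Ce.2 ?_⟩
  have h1 := h.NAz (mul_mem (mul_mem (inv_mem hg) h.ρN) hg) (by
    calc _ = g⁻¹ * (ρ * (g * z * g⁻¹)) * g := by group
      _ = _ := by rw [← mem_Ce.1 e.2]; group) v hv
  calc _ = g * (v * (g⁻¹ * ρ * g)) * g⁻¹ := by group
    _ = _ := by rw [h1]; group

theorem exists_g (hc : IsConj z t) : ∃ g ∈ NN Q P z s ρ, g * z * g⁻¹ = t := by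
  obtain ⟨c, hc⟩ := isConj_iff.1 hc
  have h0 : ∀ a ∈ AA Q P z s ρ, c⁻¹ * a * c ∈ Ce z := fun a ha => mem_Ce.2 (by
    calc _ = c⁻¹ * (a * (c * z * c⁻¹)) * c := by group
      _ = c⁻¹ * (c * z * c⁻¹ * a) * c := by rw [hc, mem_Ce.1 (h.At ha)]
      _ = _ := by group)
  have h1 : ∀ a ∈ AA Q P z s ρ, c⁻¹ * a * c * (c⁻¹ * a * c) = 1 := fun a ha => by
    calc _ = c⁻¹ * (a * a) * c := by group
      _ = _ := by rw [h.Asq ha]; group
  have h2 : ∀ a, c⁻¹ * a * c = z → a = t := fun a e => by rw [← hc, ← e]; group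
  have tV : t ∉ Vs z s := fun e => h.tQ (h.l.pr.V_le e)
  obtain ⟨a, ha, e⟩ : ∃ a ∈ AA Q P z s ρ, c⁻¹ * a * c ∉ Q := by
    by_contra! e
    have sA : s ∈ AA Q P z s ρ := mem_sup_left Pr.t_mem
    have h3 : c⁻¹ * z * c ∈ Om Q z := ⟨e z h.zA', h1 z h.zA', fun e => by
      rcases h.wq.mem_z.1 e with e | e
      · exact h.wq.ne_one (by simpa [mul_assoc, inv_mul_eq_one] using e)
      · exact tV (h2 z e ▸ Pr.z_mem)⟩
    rcases (H11.mem_four_iff h.wq.zz h3.2.1 (h.wq.cent _ h3.1).symm).1 ((h.wq.main h3).2 _ (e s sA)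
      (by
        calc _ = c⁻¹ * (s * z) * c := by group
          _ = _ := by rw [h.l.pr.tz]; group) (h1 s sA)) with e | e | e | e
    · exact h.wp.ne_one (by simpa [mul_assoc, inv_mul_eq_one] using e)
    · exact tV (h2 s e ▸ Pr.t_mem)
    · exact h.l.ne (by simpa using e)
    · refine tV (h2 (s * z⁻¹) ?_ ▸ mul_mem Pr.t_mem (inv_mem Pr.z_mem))
      calc _ = c⁻¹ * s * c * (c⁻¹ * z * c)⁻¹ := by group
        _ = _ := by rw [e, mul_inv_cancel_right]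
  obtain ⟨k, hk, e'⟩ := (h.invH (h0 a ha) (h1 a ha)).resolve_left e
  refine ⟨c * k, ?_, by rw [← hc, mul_assoc c, mem_Ce.1 hk]; group⟩
  refine (NN Q P z s ρ).inv_mem_iff.1 (mem_normalizer_of_conj_le fun b hb => h.CH.le ⟨mem_Ce.2 ?_, ?_⟩)
  · have : t = (c * k)⁻¹ * a * (c * k)⁻¹⁻¹ := by
      calc t = k⁻¹ * (k * t * k⁻¹) * k := by group
        _ = _ := by rw [e']; group
    rw [this, conj_mul, conj_mul, h.Acomm hb ha]
  · have := mul_mem (mul_mem (inv_mem hk) (h0 b hb)) hk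
    rwa [show k⁻¹ * (c⁻¹ * b * c) * k = (c * k)⁻¹ * b * (c * k)⁻¹⁻¹ by group] at this

theorem clsR (hv : v ∈ Vs z s) : ∃ r ∈ RR Q P z s, r * t * r⁻¹ = v * t := by
  have h1 := card_mul_cls (RR Q P z s) t
  rw [h.CR, h.cardA, h.cardR] at h1
  exact (Set.eq_of_subset_of_ncard_le (show cls (RR Q P z s) t ⊆ (· * t) '' (Vs z s : Set G) from
    fun _ ⟨r, hr, e⟩ => ⟨_, h.commR hr h.tR, by simp [← e, commutatorElement_def]⟩) (by
      rw [Set.ncard_image_of_injective _ (mul_left_injective t), ncard_coe, h.cardV]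
      omega)).ge ⟨v, hv, rfl⟩

end JD

/-- `g` normalizes `A` and interchanges `V` and `U` -/
structure Sw (Q P : Subgroup G) (z s ρ g : G) : Prop where
  n : g ∈ NN Q P z s ρ
  vu : ∀ v ∈ Vs z s, g * v * g⁻¹ ∈ UU Q P z s ρ
  uv : ∀ u ∈ UU Q P z s ρ, g * u * g⁻¹ ∈ Vs z s

namespace JD

variable {Q P : Subgroup G} {z s σ ρ t x y u a q g v w : G} (h : JD Q P z s σ ρ t)
include h

theorem onto {A B : Subgroup G} (hA : Nat.card A = 4) (hB : Nat.card B = 4)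
    (e : ∀ a ∈ A, g * a * g⁻¹ ∈ B) (hb : x ∈ B) : g⁻¹ * x * g ∈ A := by
  obtain ⟨a, ha, rfl⟩ := (eq_of_le_of_card_ge (show A.map (MulAut.conj g).toMonoidHom ≤ B from
    fun _ ⟨a, ha, e'⟩ => e' ▸ e a ha) (by rw [card_conj, hA, hB])).ge hb
  simpa [mul_assoc] using ha

theorem exists_sw (hc : IsConj z t) : ∃ g, Sw Q P z s ρ g := by
  obtain ⟨g, hg, e⟩ := h.exists_g hc
  obtain ⟨v, hv, u, hu, e'⟩ := h.A_dec (((NN Q P z s ρ).inv_mem hg z).1 h.zA')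
  have h1 : u ≠ 1 := by
    rintro rfl
    have := h.toU hg (e ▸ h.tU) hv
    rw [← mul_one v, e'] at this
    exact h.wq.ne_one (h.UQ (by simpa [mul_assoc] using this) h.wq.mem)
  obtain ⟨r, hr, e''⟩ := (h.swap hu h1).clsR hv
  have h2 := mul_mem hg (h.RA hr)
  refine ⟨g * r, h2, fun v hv => h.toU h2 (by
    rw [mul_assoc g, h.Rz hr, mul_inv_rev, mul_assoc, mul_assoc, mul_inv_cancel_left, ← mul_assoc, e]
    exact h.tU) hv, fun x hx => ?_⟩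
  have := h.onto h.cardV h.cardU (fun v hv => h.toU (inv_mem h2) (by
    rwa [show (g * r)⁻¹ * z * (g * r)⁻¹⁻¹ = r⁻¹ * (g⁻¹ * z * g⁻¹⁻¹) * r by group, ← e', ← e'',
      show r⁻¹ * (r * u * r⁻¹) * r = u by group]) hv) hx
  rwa [inv_inv] at this

theorem sw_mul (hg : Sw Q P z s ρ g) (ha : a ∈ AA Q P z s ρ) : Sw Q P z s ρ (a * g) := by
  have e : ∀ x, g * x * g⁻¹ ∈ AA Q P z s ρ → a * g * x * (a * g)⁻¹ = g * x * g⁻¹ := fun x hx => by
    calc _ = a * (g * x * g⁻¹) * a⁻¹ := by group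
      _ = _ := by rw [h.Acomm ha hx, mul_inv_cancel_right]
  exact ⟨mul_mem (le_normalizer ha) hg.n, fun v hv => e v (mem_sup_right (hg.vu v hv)) ▸ hg.vu v hv,
    fun u hu => e u (mem_sup_left (hg.uv u hu)) ▸ hg.uv u hu⟩

theorem exists_sw' (hc : IsConj z t) : ∃ g, Sw Q P z s ρ g ∧ g * σ * g⁻¹ ∈ zpowers ρ ∧
    g * ρ * g⁻¹ ∈ zpowers σ := by
  obtain ⟨g, hg⟩ := h.exists_sw hc
  obtain ⟨a, ha, e⟩ := conj_into (k := 4) h.cardA h.oρ h.ρN (y := g * σ * g⁻¹) (h.CM.le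
    ⟨mem_Ce.2 (by
      calc _ = g * (σ * (g⁻¹ * t * g)) * g⁻¹ := by group
        _ = _ := by rw [← h.σC _ (h.onto h.cardV h.cardU hg.vu h.tU)]; group),
      mem_normalizer_of_conj_le fun v hv => by
        have := hg.uv _ ((h.σU _).1 (h.onto h.cardU h.cardV hg.uv hv))
        rwa [show g * (σ * (g⁻¹ * v * g) * σ⁻¹) * g⁻¹ = g * σ * g⁻¹ * v * (g * σ * g⁻¹)⁻¹ by
          group] at this⟩) (by rw [conj_pow, h.σ3]; simp)
  replace hg := h.sw_mul hg ha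
  rw [show a * (g * σ * g⁻¹) * a⁻¹ = a * g * σ * (a * g)⁻¹ by group] at e
  generalize a * g = g at hg e
  have h1 : Commute (g * ρ * g⁻¹) ρ := by
    have h2 : Commute (g * ρ * g⁻¹) (g * σ * g⁻¹) := by
      rw [commute_iff_eq, conj_mul, conj_mul, h.σρ]
    rcases mem_zp3 h.oρ e with e | e | e
    · have := h.oσ
      rw [← orderOf_conj' g, e, orderOf_one] at this
      omega
    · rwa [e] at h2
    · rwa [e, Commute.inv_right_iff] at h2
  obtain ⟨r, hr, j, e'⟩ := dec3 h.σR (h.CV_eq.ge (show g * ρ * g⁻¹ ∈ CV z s from fun v hv => by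
    calc _ = g * (g⁻¹ * v * g * ρ) * g⁻¹ := by group
      _ = _ := by rw [mem_Ce.1 (h.onto h.cardU h.cardV hg.uv hv).2]; group))
  obtain ⟨u, hu, e''⟩ := conj_into (k := 2) h.cardU h.oσ h.σU (y := g * ρ * g⁻¹) (by
    rw [← e']
    refine mul_mem_sup ⟨hr, mem_Ce.2 ?_⟩ (zpow_mem_zpowers σ j)
    rw [eq_mul_inv_of_mul_eq e']
    exact h1.mul_left (Commute.zpow_left h.σρ j).inv_left) (by rw [conj_pow, h.ρ3]; simp)
  refine ⟨u * g, h.sw_mul hg (mem_sup_right hu), ?_, ?_⟩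
  · obtain ⟨i, hi⟩ := e
    refine ⟨i, ?_⟩
    calc _ = u * ρ ^ i * u⁻¹ := by
          rw [Commute.zpow_right (mem_Ce.1 hu.2) i, mul_inv_cancel_right]
      _ = _ := by rw [show ρ ^ i = _ from hi]; group
  · rwa [show u * g * ρ * (u * g)⁻¹ = u * (g * ρ * g⁻¹) * u⁻¹ by group]

theorem exists_w (hc : IsConj z t) : ∃ w, w * w = 1 ∧ Sw Q P z s ρ w ∧
    (w * σ * w⁻¹ = ρ ∨ w * σ * w⁻¹ = ρ⁻¹) := by
  obtain ⟨g, hg, e1, e2⟩ := h.exists_sw' hc
  have a1 : g * g ∈ NV z s := mem_normalizer_of_conj_le fun v hv => by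
    have := hg.uv _ (hg.vu v hv)
    rwa [show g * (g * v * g⁻¹) * g⁻¹ = g * g * v * (g * g)⁻¹ by group] at this
  obtain ⟨i, a2⟩ : ∃ i : ℤ, ρ ^ i * (g * g) * z * (ρ ^ i * (g * g))⁻¹ = z := by
    have b : ∀ i : ℤ, ρ ^ i * (g * g) * z * (ρ ^ i * (g * g))⁻¹ =
        ρ ^ i * (g * g * z * (g * g)⁻¹) * (ρ ^ i)⁻¹ := fun i => by group
    rcases h.conjV a1 Pr.z_mem h.wq.ne_one with e | e | e
    · exact ⟨0, by rw [b, e]; simp⟩
    · exact ⟨-1, by rw [b, e, ← h.ρz]; group⟩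
    · exact ⟨1, by rw [b, e, zpow_one, h.ρzs]⟩
  obtain ⟨r, hr, j, a3⟩ := dec3 h.σR (h.CV_eq.ge (h.NAz (mul_mem (zpow_mem h.ρN i)
    (mul_mem hg.n hg.n)) (mul_inv_eq_iff_eq_mul.1 a2)))
  have n1 : ∀ {a b : G}, g * a * g⁻¹ ∈ zpowers b → g * b * g⁻¹ ∈ zpowers a →
      g * g ∈ normalizer (zpowers a : Set G) := fun {a b} e1 e2 =>
    mem_normalizer_of_conj_le fun _ ⟨n, hn⟩ => by
      obtain ⟨m, hm⟩ := e1
      have := zpow_mem (zpow_mem e2 m) n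
      rwa [conj_zpow, show b ^ m = _ from hm, conj_zpow, conj_zpow, show a ^ n = _ from hn,
        show ∀ x, g * (g * x * g⁻¹) * g⁻¹ = g * g * x * (g * g)⁻¹ from fun x => by group] at this
  have n2 : ∀ {a b : G}, Commute a b → ∀ n : ℤ, a ^ n ∈ normalizer (zpowers b : Set G) :=
    fun {a b} e n => centralizer_le_normalizer _ (by
      rw [centralizer_zpowers]; exact mem_Ce.2 (e.zpow_left n))
  have n3 : ∀ {a : G}, orderOf a = 3 → a ∈ normalizer (RR Q P z s : Set G) →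
      r ∈ normalizer (zpowers a : Set G) → r * a = a * r := fun {a} ho e1 e2 =>
    commutatorElement_eq_one_iff_mul_comm.1 (eq_one_of_23 (k := 6) h.cardR ho (by
      rw [commutatorElement_def, mul_assoc, mul_assoc, ← mul_assoc a]
      exact mul_mem hr ((e1 _).1 (inv_mem hr)))
        (mul_mem ((e2 a).1 (mem_zpowers a)) (inv_mem (mem_zpowers a))))
  have a4 := eq_mul_inv_of_mul_eq a3
  have a5 : r = 1 := h.Vfix (h.fpf h.σC h.oσ hr (n3 h.oσ h.σR (a4 ▸ mul_mem (mul_mem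
    (n2 h.σρ.symm i) (n1 e1 e2)) (inv_mem (n2 (Commute.refl σ) j))))) (n3 h.oρ (h.M_norm h.ρM)
      (a4 ▸ mul_mem (mul_mem (n2 (Commute.refl ρ) i) (n1 e2 e1)) (inv_mem (n2 h.σρ j))))
  rw [a5, one_mul, eq_comm, ← eq_inv_mul_iff_mul_eq] at a3
  have c1 : Commute (ρ ^ i)⁻¹ (σ ^ j) := (Commute.zpow_zpow h.σρ.symm i j).inv_left
  have a6 : (g * g) ^ 3 = 1 := by
    rw [a3, c1.mul_pow, inv_pow, ← zpow_natCast, ← zpow_natCast, ← zpow_mul, ← zpow_mul,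
      mul_comm i, mul_comm j, zpow_mul, zpow_mul, zpow_natCast, zpow_natCast, h.ρ3, h.σ3]
    simp
  have a7 : Commute (g * g) σ := a3 ▸ (Commute.zpow_left h.σρ.symm i).inv_left.mul_left
    ((Commute.refl σ).zpow_left j)
  have a8 : g * g ∈ normalizer (UU Q P z s ρ : Set G) := mem_normalizer_of_conj_le fun v hv => by
    have := hg.vu _ (hg.uv v hv)
    rwa [show g * (g * v * g⁻¹) * g⁻¹ = g * g * v * (g * g)⁻¹ by group] at this
  have b : ∀ x, g * (g * g) * x * (g * (g * g))⁻¹ = g * (g * g * x * (g * g)⁻¹) * g⁻¹ :=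
    fun x => by group
  refine ⟨g * (g * g), by rw [← a6, pow_three]; group, ⟨mul_mem hg.n (mul_mem hg.n hg.n),
    fun v hv => b v ▸ hg.vu _ ((a1 v).1 hv), fun u hu => b u ▸ hg.uv _ ((a8 u).1 hu)⟩, ?_⟩
  rw [b, a7, mul_inv_cancel_right]
  refine (mem_zp3 h.oρ e1).resolve_left fun e => ?_
  have := h.oσ
  rw [← orderOf_conj' g, e, orderOf_one] at this
  omega

end JD

end Cfsg.Agent.J2T
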