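import Cfsg.Agent.J3T.B
import Cfsg.Agent.J3T.TC
import Cfsg.Agent.J3T.TC2

/-! Groups of type `J₃` satisfy the relations `J3U.R0`. -/

set_option autoImplicit false
set_option linter.unusedSectionVars false

namespace Cfsg.Agent.J2T

open Subgroup Cfsg.Agent.H10 Cfsg.Agent.JR
open scoped commutatorElement Pointwise

variable {G : Type*} [Group G] [Finite G]

/-- the letters -/
def l3 (z t q w σ ρ : G) : ℕ → G
  | 0 => z
  | 1 => t
  | 2 => q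
  | 3 => w
  | 4 => q * t * q⁻¹
  | 5 => σ
  | 6 => σ⁻¹
  | 7 => ρ
  | 8 => ρ⁻¹
  | _ => 1

theorem l3_big (z t q w σ ρ : G) (x : ℕ) (hx : 9 ≤ x) : l3 z t q w σ ρ x = 1 := by
  obtain ⟨y, rfl⟩ := Nat.exists_eq_add_of_le' hx
  rfl

namespace JQ

variable {Q P : Subgroup G} {z s σ ρ t x y u a q g v w : G} (h : JQ Q P z s σ ρ t q w)
include h

theorem uu : q * t * q⁻¹ * (q * t * q⁻¹) = 1 := by rw [conj_mul, h.tt]; simp

theorem linv : H17.Inv 5 (l3 z t q w σ ρ) := by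
  refine H17.inv_of_sat (nc := 9) rfl (by decide) (l3_big _ _ _ _ _ _) ?_
  rw [show H17.invWords 5 9 = [[8, 7], [7, 8], [6, 5], [5, 6], [4, 4], [3, 3], [2, 2], [1, 1],
    [0, 0]] by decide +kernel]
  have := h.uu
  simp only [H17.Sat, List.forall_mem_cons, H17.ev_cons, H17.ev_nil, l3, mul_one]
  simp [this, h.w2, h.q2, h.tt, h.wq.zz]

theorem satb (wσ : w * σ * w⁻¹ = ρ⁻¹) (a8 : ((q * w) ^ 3) ^ 3 = 1) :
    H17.Sat (l3 z t q w σ ρ) H17.J3U.Rb := by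
  have a1 := h.σ3
  have a2 := h.ρ3
  have a3 := h.σρ
  have a4 := h.σz
  have a5 := h.ρz3
  have a6 := h.relU
  have a7 := h.tq4 h.hq h.q2 h.qs
  have b1 := h.uu
  have b2 := h.Rz (h.qR h.tR)
  have b3 := h.τu
  have b4 := h.utu
  have b5 : q * t * q⁻¹ * (σ * (q * t * q⁻¹) * σ⁻¹) * (σ⁻¹ * (q * t * q⁻¹) * σ) = 1 := by
    have e : σ = q * σ * q⁻¹ := by rw [h.qσ, mul_inv_cancel_right]
    rw [e, conj_inv, conj_mul, conj_mul, conj_mul, conj_mul, conj_mul, conj_mul, a6]; simp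
  have b6 : q * t * q⁻¹ * (q * (t * q)) = 1 := by
    rw [← b1]; nth_rw 4 [← h.q']; group
  simp only [H17.Sat, H17.J3U.Rb, List.forall_mem_cons, H17.ev_cons, H17.ev_nil, l3, mul_one]
  generalize q * t * q⁻¹ = u at b1 b2 b3 b4 b5 b6 ⊢
  refine ⟨?_, ?_, ?_, ?_, ?_, ?_, ?_, ?_, ?_, ?_, ?_, ?_, ?_, ?_, ?_, b6, ?_, ?_, ?_, ?_, ?_,
    by simp⟩
  · rw [← a1, pow_three]
  · rw [← a2, pow_three]
  · rw [← mul_assoc, a3]; group
  · rw [← mul_assoc, a4, mul_assoc, mul_inv_cancel_left, h.wq.zz]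
  · rw [← a5, pow_three]; group
  · calc _ = z * (ρ * z * ρ⁻¹) * (z * (ρ * z * ρ⁻¹)) := by group
      _ = 1 := by rw [h.ρz]; exact H11.klein_sq h.klein (mul_mem Pr.z_mem Pr.t_mem)
  · rw [← mul_assoc, h.tρ, mul_assoc, ← mul_assoc t, h.tt, one_mul, mul_inv_cancel]
  · rw [← mul_assoc z, ← h.Rz h.tR, mul_assoc, h.wq.zz, mul_one, h.tt]
  · rw [← a6]; group
  · rw [← mul_assoc, h.qσ, mul_assoc, ← mul_assoc q, h.q2, one_mul, mul_inv_cancel]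
  · rw [← mul_assoc z, ← h.wq.cent q h.hq, mul_assoc, h.wq.zz, mul_one, h.q2]
  · rw [← h.qρ]; group
  · rw [← h.wq.zz]
    nth_rw 2 [← a7]
    group
  · rw [← mul_assoc, ← mul_assoc]
    nth_rw 2 [← h.w']
    rw [wσ, inv_mul_cancel]
  · rw [← mul_assoc, ← mul_assoc]
    nth_rw 2 [← h.w']
    rw [h.wz, h.tt]
  · rw [← a8, pow_three, pow_three]; simp only [mul_assoc]
  · rw [← mul_assoc z, ← b2, mul_assoc, h.wq.zz, mul_one, b1]
  · calc _ = u * (σ * ρ⁻¹ * u * (σ * ρ⁻¹)⁻¹) := by group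
      _ = 1 := by rw [b3, mul_inv_cancel_right, b1]
  · rw [← b5]; group
  · calc _ = t * (u * t * u⁻¹) * (u * u) * z := by group
      _ = 1 := by rw [b4, b1, mul_one, ← h.Rz h.tR, ← mul_assoc, h.tt, one_mul, h.wq.zz]

theorem lM {W : List (List ℕ)} (e : W = [[0], [1], [2], [4], [5], [6], [7], [8]]) :
    ∀ u ∈ W, H17.ev (l3 z t q w σ ρ) u ∈ NV z s := by
  have a1 : σ ∈ NV z s := centralizer_le_normalizer _ h.σC
  simp only [e, List.forall_mem_cons, H17.ev_cons, H17.ev_nil, l3, mul_one]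
  exact ⟨h.RM (h.VR Pr.z_mem), h.RM h.tR, h.l.pr.le_norm h.hq, h.RM (h.qR h.tR), a1, inv_mem a1,
    h.ρM, inv_mem h.ρM, by simp⟩

theorem wM : H17.ev (l3 z t q w σ ρ) [3] ∉ NV z s := fun e => by
  simp only [H17.ev_cons, H17.ev_nil, l3, mul_one] at e
  exact h.tQ (h.l.pr.V_le (h.wz ▸ (e z).1 Pr.z_mem))

theorem sat0 (wσ : w * σ * w⁻¹ = ρ⁻¹) (a8 : ((q * w) ^ 3) ^ 3 = 1) :
    H17.Sat (l3 z t q w σ ρ) H17.J3U.R0 := by
  have a := h.satb wσ a8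
  have e1 : q * σ * q⁻¹ = σ := by rw [h.qσ, mul_inv_cancel_right]
  obtain ⟨x, rfl | rfl | rfl, e⟩ := h.krel wσ
  · refine H17.Sat.mono (S := [3, 4, 3, 4, 3, 4] :: H17.J3U.Rb) (List.forall_mem_cons.2 ⟨?_, a⟩)
      (H17.subsetB_sound (by decide +kernel))
    simp only [H17.ev_cons, H17.ev_nil, l3, mul_one]
    rw [← e, pow_three]; simp only [mul_assoc]
  · refine absurd (H17.J3U.col1 h.linv (l3_big _ _ _ _ _ _) (List.forall_mem_cons.2 ⟨?_, a⟩)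
      (h.lM (by decide +kernel))) h.wM
    simp only [H17.ev_cons, H17.ev_nil, l3, mul_one]
    rw [← e, ← conj_mul, ← conj_mul, ← conj_inv, e1, pow_three]; simp only [mul_assoc]
  · refine absurd (H17.J3U.col2 h.linv (l3_big _ _ _ _ _ _) (List.forall_mem_cons.2 ⟨?_, a⟩)
      (h.lM (by decide +kernel))) h.wM
    simp only [H17.ev_cons, H17.ev_nil, l3, mul_one]
    rw [← e, ← conj_mul, ← conj_mul, ← conj_inv, e1, pow_three]; simp only [mul_assoc]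

end JQ

theorem JD.rel' {Q P : Subgroup G} {z s σ ρ t q : G} (h : JD Q P z s σ ρ t) {π : Ce z →* A5}
    (ker : ∀ x, π x = 1 ↔ x.1 ∈ Q)
    (hone : ∀ x y : G, orderOf x = 2 → orderOf y = 2 → IsConj x y) (hq : q ∈ Q) (q2 : q * q = 1)
    (qs : q * s ≠ s * q) (qσ : q * σ = σ * q) (qρ : q * ρ * q * ρ = σ) :
    ∃ g : ℕ → G, H17.Inv 5 g ∧ H17.Sat g H17.J3U.R0 ∧ g 0 = z := by
  obtain ⟨w, w2, sw, e⟩ := h.exists_w (hone _ _ h.wq.ord h.ot)
  have h' : JQ Q P z s σ ρ (w * z * w⁻¹) q w := ⟨h.swap (sw.vu z Pr.z_mem)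
    (by simpa using h.wq.ne_one), hq, q2, qs, qσ, qρ, w2, sw, rfl⟩
  have wσ := e.resolve_left h'.neps
  exact ⟨_, h'.linv, h'.sat0 wσ (h'.qw9 wσ ker hone), rfl⟩

theorem JW.rel [IsSimpleGroup G] {Q : Subgroup G} {z : G} (h : JW Q z) {π : Ce z →* A5}
    (sur : Function.Surjective π) (ker : ∀ x, π x = 1 ↔ x.1 ∈ Q)
    (hone : ∀ x y : G, orderOf x = 2 → orderOf y = 2 → IsConj x y) :
    ∃ g : ℕ → G, H17.Inv 5 g ∧ H17.Sat g H17.J3U.R0 ∧ g 0 = z := by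
  obtain ⟨g, hg, hne⟩ := h.nwc sur ker
  obtain ⟨σ, ρ, t, h1⟩ := JP.exists_jd ⟨h.toLX.lpr hg hne, h, h.conj g⟩
  obtain ⟨q, hq, q2, qs, qσ, e⟩ := h1.exists_q ker
  rcases mem_zp3 h1.oσ e with e | e | e
  · exact absurd e (h1.not_inv hq q2 qs)
  · exact h1.rel' ker hone hq q2 qs qσ e
  · exact h1.inv.rel' ker hone hq q2 qs (Commute.inv_right qσ) e

theorem jw_of {t : G} (ht : orderOf t = 2) {Q : Subgroup (Ce t)}
    [hN : Q.Normal] (hQ : IsExtraspecial 2 Q) (hcard : Nat.card Q = 32)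
    (h2c : centralizer (Q : Set (Ce t)) ≤ Q) (e : Ce t ⧸ Q ≃* A5) :
    ∃ (Q' : Subgroup G) (π : Ce t →* A5), JW Q' t ∧ Function.Surjective π ∧
      ∀ x, π x = 1 ↔ x.1 ∈ Q' := by
  have a1 : t ∈ Q.map (Ce t).subtype :=
    ⟨⟨t, mem_Ce.2 rfl⟩, h2c fun q _ => Subtype.ext (mem_Ce.1 q.2), rfl⟩
  have a2 : XS (Q.map (Ce t).subtype) t := xs_of_isExtraspecial
    (H26.isExtraspecial_congr hQ (equivMapOfInjective _ _ (subtype_injective _)))
    (by rintro rfl; simp at ht) a1 fun _ ⟨q, _, e⟩ => e ▸ mem_Ce.1 q.2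
  exact ⟨_, e.toMonoidHom.comp (QuotientGroup.mk' Q), ⟨⟨a2, fun c hc => a2.zc c
    ⟨⟨c, mem_Ce.2 (hc t a1).symm⟩, h2c fun q hq => Subtype.ext (hc _ ⟨q, hq, rfl⟩), rfl⟩ hc,
      fun c hc => mem_normalizer_of_conj_le fun _ ⟨q, hq, e⟩ =>
        ⟨_, hN.conj_mem q hq ⟨c, hc⟩, e ▸ rfl⟩⟩,
    by rw [card_map_of_injective (subtype_injective _), hcard], by
      rw [card_eq_card_quotient_mul_card_subgroup Q, Nat.card_congr e.toEquiv, card_A5, hcard]⟩,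
    e.surjective.comp (QuotientGroup.mk'_surjective Q),
    fun x => (e.map_eq_one_iff.trans (QuotientGroup.eq_one_iff x)).trans
      (mem_map_iff_mem (subtype_injective _)).symm⟩

end Cfsg.Agent.J2T
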