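import Mathlib

/-! Element orders in some small groups. -/

set_option autoImplicit false

namespace Cfsg.Agent.J3T

/-- all element orders divide 4, 5, 6 or 7 -/
def Small (X : Type*) [Group X] : Prop := ∀ c : X, c ^ 4 = 1 ∨ c ^ 5 = 1 ∨ c ^ 6 = 1 ∨ c ^ 7 = 1

theorem Small.of_inj {X Y : Type*} [Group X] [Group Y] (h : Small Y) (f : X →* Y)
    (hf : Function.Injective f) : Small X := fun c => by
  simpa only [← map_pow, (injective_iff_map_eq_one' f).1 hf] using h (f c)

theorem s6 : ∀ c : Equiv.Perm (Fin 6), c ^ 4 = 1 ∨ c ^ 5 = 1 ∨ c ^ 6 = 1 := by decide +kernel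

theorem small6 : Small (Equiv.Perm (Fin 6)) := fun c => by have := s6 c; tauto

theorem small4 : Small (Equiv.Perm (Fin 4)) :=
  small6.of_inj _ (Equiv.Perm.viaEmbeddingHom_injective (Fin.castLEEmb (by norm_num)))

theorem small5 : Small (Equiv.Perm (Fin 5)) :=
  small6.of_inj _ (Equiv.Perm.viaEmbeddingHom_injective (Fin.castLEEmb (by norm_num)))

theorem smallA6 : Small (alternatingGroup (Fin 6)) :=
  small6.of_inj _ (Subgroup.subtype_injective _)

theorem l3 : ∀ a b c d e f g h i : ZMod 2, let A := !![a, b, c; d, e, f; g, h, i]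
    A.det = 1 → A ^ 4 = 1 ∨ A ^ 6 = 1 ∨ A ^ 7 = 1 := by
  simp only [Matrix.det_fin_three]
  decide +kernel

theorem smallL3 : Small (Matrix.SpecialLinearGroup (Fin 3) (ZMod 2)) := fun c => by
  have := l3 (c.1 0 0) (c.1 0 1) (c.1 0 2) (c.1 1 0) (c.1 1 1) (c.1 1 2) (c.1 2 0) (c.1 2 1) (c.1 2 2)
  simp only [← Matrix.eta_fin_three] at this
  have k : ∀ n : ℕ, c.1 ^ n = 1 → c ^ n = 1 := fun n e =>
    Subtype.ext ((Matrix.SpecialLinearGroup.coe_pow c n).trans e)
  rcases this c.2 with e | e | e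
  exacts [Or.inl (k _ e), Or.inr (Or.inr (Or.inl (k _ e))), Or.inr (Or.inr (Or.inr (k _ e)))]

theorem Small.cube {X : Type*} [Group X] [Finite X] (h : Small X) {a b : X} (ha : orderOf a = 3)
    (e : Commute a b) (hb : Odd (orderOf b)) : b ^ 3 = 1 := by
  have k : ∀ c : X, orderOf c ≤ 7 := fun c => by
    rcases h c with e | e | e | e <;>
      exact (Nat.le_of_dvd (by norm_num) (orderOf_dvd_of_pow_eq_one e)).trans (by norm_num)
  have h1 := k b
  have h2 := k (a * b)
  have h3 := e.orderOf_mul_eq_mul_orderOf_of_coprime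
  rw [← orderOf_dvd_iff_pow_eq_one]
  rw [ha] at h3
  obtain ⟨n, hn⟩ := hb
  generalize orderOf b = m at *
  interval_cases m <;> first | omega | (rw [h3 (by norm_num)] at h2; omega)

end Cfsg.Agent.J3T
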