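import Cfsg.Agent.J3T.A
import Cfsg.Agent.J3T.Ord
import Cfsg.Agent.S0206
import Cfsg.Agent.S3035

/-! Groups of type `J₃`: the amalgam relations. -/

set_option autoImplicit false
set_option linter.unusedSectionVars false

namespace Cfsg.Agent.J2T

open Subgroup Cfsg.Agent.H10 Cfsg.Agent.JR
open scoped commutatorElement Pointwise

variable {G : Type*} [Group G] [Finite G]

theorem A5_w : ∀ w : A5, w * w = 1 → w * r5 * w * r5 = 1 → (w * a5) ^ 3 = 1 ∨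
    (w * (r5 * a5 * r5⁻¹)) ^ 3 = 1 ∨ (w * (r5⁻¹ * a5 * r5)) ^ 3 = 1 := by decide +kernel

theorem eq_one_of_inv {x y i : G} (ho : orderOf x = 3) (hy : y ∈ zpowers x) (e1 : i * x = x * i)
    (e2 : i * y * i⁻¹ = y⁻¹) : y = 1 := by
  obtain ⟨n, rfl⟩ := hy
  rw [Commute.zpow_right e1 n, mul_inv_cancel_right] at e2
  rcases mem_zp3 ho ⟨n, rfl⟩ with e | e | e
  · exact e
  all_goals
    dsimp only at e e2
    rw [e] at e2
  · exact (eq_inv3 ho e2).elim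
  · exact (eq_inv3 ho (by simpa using e2.symm)).elim

namespace JD

variable {Q P : Subgroup G} {z s σ ρ t x y u a q g v w : G} (h : JD Q P z s σ ρ t)
include h

theorem cardQσ : Nat.card (Q ⊓ Ce σ : Subgroup G) = 8 := by
  have h0 := Pr.mem_cV.1 h.σC
  have h1 := dvd_diff Nat.prime_three h.oσ (X := Q) fun x hx => h.wq.conj_mem h0.1 hx
  have h2 := ncard_split Q (Ce σ)
  rw [← coe_inf, ncard_coe, ncard_coe, h.wq.cq] at h2
  have h3 : Nat.card (Q ⊓ Ce σ : Subgroup G) ∣ 32 := h.wq.cq ▸ card_dvd_of_le inf_le_left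
  have h4 := card_le_of_le (show Vs z s ≤ Q ⊓ Ce σ from fun v hv =>
    ⟨h.l.pr.V_le hv, mem_Ce.2 (h.σC v hv)⟩)
  have h5 := H1.card_inf_mul_relIndex (Ce s) (Q ⊓ Ce σ)
  have h6 := H1.card_inf_mul_relIndex (Ce s) Q
  rw [inf_comm, h.cardQ1, h.wq.cq] at h6
  have h7 := relIndex_le_of_le_right (H := Ce s) (inf_le_left : Q ⊓ Ce σ ≤ Q) (by omega)
  have h8 := card_le_of_le (show Ce s ⊓ (Q ⊓ Ce σ) ≤ Vs z s from fun x hx =>
    h.fpfQ h.σC h.oσ ⟨⟨hx.2.1, hx.1⟩, hx.2.2⟩)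
  have h9 := h5.symm.trans_le (Nat.mul_le_mul h8 h7)
  rw [h.cardV] at h4 h9
  have : Nat.card (Q ⊓ Ce σ : Subgroup G) ≤ 8 := by omega
  generalize Nat.card (Q ⊓ Ce σ : Subgroup G) = m at *
  interval_cases m <;> omega

theorem ρz3 : (ρ * z) ^ 3 = 1 := by
  calc _ = ρ * z * ρ⁻¹ * (ρ * (ρ * z * ρ⁻¹) * ρ⁻¹) * ρ ^ 3 * z := by
        simp only [pow_three]; group
    _ = 1 := by
      rw [h.ρz, h.ρs, h.ρ3, mul_one, ← mul_assoc, h.l.pr.tz, mul_assoc z, h.wp.zz, mul_one,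
        h.wq.zz]

theorem relU : t * (σ * t * σ⁻¹) * (σ⁻¹ * t * σ) = 1 := by
  have b : σ * t * σ⁻¹ ∈ UU Q P z s ρ := (h.σU t).1 h.tU
  have c : σ⁻¹ * t * σ ∈ UU Q P z s ρ := by simpa using (h.inv.σU t).1 h.tU
  have b1 : t ≠ σ * t * σ⁻¹ := fun e => h.σt (mul_inv_eq_iff_eq_mul.1 e.symm)
  rcases (H11.klein_mem_iff h.kleinU h.tU b h.t1 (by simpa using h.t1) b1).1 c with e | e | e | e
  · refine absurd ?_ h.t1
    calc t = σ * (σ⁻¹ * t * σ) * σ⁻¹ := by group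
      _ = 1 := by rw [e]; group
  · exact absurd (by nth_rw 2 [← e]; group) b1
  · exact absurd (fix_of_sq h.σ3 (by rw [← e]; group)).symm b1
  · rw [e]; exact h.Usq (mul_mem h.tU b)

theorem σt3 : (σ * t) ^ 3 = 1 := by
  have e : σ * σ = σ⁻¹ := eq_inv_of_mul_eq_one_left (by rw [← pow_three', h.σ3])
  calc _ = t⁻¹ * (t * (σ * t * σ⁻¹) * (σ * σ * t * σ)) * t := by rw [pow_three]; group
    _ = 1 := by rw [e, h.relU]; group

theorem tq4 (hq : q ∈ Q) (q2 : q * q = 1) (qs : q * s ≠ s * q) :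
    t * q * (t * q) * (t * q * (t * q)) = z := by
  have q' : q⁻¹ = q := inv_eq_of_mul_eq_one_right q2
  have t' : t⁻¹ = t := inv_eq_of_mul_eq_one_right h.tt
  have w : t * q * (t * q) ∈ Q := by
    have := mul_mem (h.wq.conj_mem (h.Rz h.tR) hq) hq
    rwa [t', mul_assoc] at this
  refine h.wq.sq_eq w fun e => h.t1 (h.qU hq qs h.tU (h.CR.le ⟨mem_Ce.2 ?_,
    (h.M_norm (h.l.pr.le_norm hq) t).1 h.tR⟩))
  rw [q']
  calc _ = (t * q * (t * q))⁻¹ := by simp only [mul_inv_rev, q', t', mul_assoc]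
    _ = _ := by rw [inv_eq_of_mul_eq_one_right e]; simp only [mul_assoc]

theorem exists_q0 : ∃ q ∈ Q, q * q = 1 ∧ q * s ≠ s * q ∧ q * σ = σ * q := by
  obtain ⟨x, hx, h1⟩ : ∃ a ∈ ((Q ⊓ Ce σ : Subgroup G) : Set G), a ∉ (Vs z s : Set G) :=
    Set.exists_mem_notMem_of_ncard_lt_ncard (by
      rw [ncard_coe, ncard_coe, h.cardV, h.cardQσ]; norm_num)
  have h2 : x * s ≠ s * x := fun e => h1 (h.fpfQ h.σC h.oσ ⟨⟨hx.1, mem_Ce.2 e⟩, hx.2⟩)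
  by_cases e : x * x = 1
  · exact ⟨x, hx.1, e, h2, mem_Ce.1 hx.2⟩
  refine ⟨x * s, mul_mem hx.1 h.l.tQ, ?_, fun e => h2 (mul_right_cancel (e.trans
    (mul_assoc _ _ _).symm)), Commute.mul_left (mem_Ce.1 hx.2) (Pr.mem_cV.1 h.σC).2.symm⟩
  rw [h.wq.sq_mul hx.1 h.l.tQ h2.symm, h.wq.sq_eq hx.1 e, h.wq.zz, h.wp.zz, mul_one]

theorem not_inv (hq : q ∈ Q) (q2 : q * q = 1) (qs : q * s ≠ s * q) : q * ρ * q * ρ ≠ 1 := by
  intro e
  have q' : q⁻¹ = q := inv_eq_of_mul_eq_one_right q2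
  have a0 : q * ρ * q = ρ⁻¹ := eq_inv_of_mul_eq_one_left e
  refine h.t1 (h.qU hq qs h.tU (mem_sup_right
    ⟨(h.M_norm (h.l.pr.le_norm hq) t).1 h.tR, mem_Ce.2 ?_⟩))
  have : ρ = q * ρ⁻¹ * q⁻¹ := by
    rw [← a0, q', ← mul_assoc, ← mul_assoc, q2, one_mul, mul_assoc, q2, mul_one]
  rw [this, conj_mul, conj_mul, Commute.inv_right h.tρ]

theorem nzp (hy : y ∈ zpowers σ) (hy' : y ∈ zpowers ρ) : y = 1 := by
  have e : Commute y z := by obtain ⟨n, rfl⟩ := hy; exact Commute.zpow_left h.σz n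
  have e' : ¬ Commute ρ z := fun e => h.l.ne (by rw [← h.ρz, e, mul_inv_cancel_right])
  rcases mem_zp3 h.oρ hy' with rfl | rfl | rfl
  exacts [rfl, absurd e e', absurd (Commute.inv_left_iff.1 e) e']

theorem cardE : Nat.card (EE σ ρ) = 9 := by
  rw [EE, sup_comm, H1.card_sup_of_disjoint (zpowers_le.2 (centralizer_le_normalizer _
    (centralizer_zpowers σ ▸ mem_Ce.2 h.σρ.symm))) (eq_bot_iff.2 fun x hx => h.nzp hx.1 hx.2),
    Nat.card_zpowers, Nat.card_zpowers, h.oρ, h.oσ]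

theorem cσ {π : Ce z →* A5} (ker : ∀ x, π x = 1 ↔ x.1 ∈ Q) (h1 : y * z = z * y)
    (h2 : y * σ = σ * y) : ∃ v ∈ Q ⊓ Ce σ, ∃ j : ℤ, v * σ ^ j = y :=
  dec3 (centralizer_le_normalizer _ fun _ hq => mem_Ce.1 hq.2)
    (cent_hom π ker (mem_Ce.2 h.σz) (by rw [show 15 = 3 * 5 from rfl, pow_mul, h.σ3, one_pow])
      (fun e => sq_ne_of_three h.oσ (by
        rw [eq_one_of_23 (k := 5) h.wq.cq h.oσ e (mem_zpowers σ), one_mul]))
      ⟨mem_Ce.2 h1, mem_Ce.2 h2⟩)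

theorem exists_q {π : Ce z →* A5} (ker : ∀ x, π x = 1 ↔ x.1 ∈ Q) :
    ∃ q ∈ Q, q * q = 1 ∧ q * s ≠ s * q ∧ q * σ = σ * q ∧ q * ρ * q * ρ ∈ zpowers σ := by
  obtain ⟨q, hq, q2, qs, qσ⟩ := h.exists_q0
  have q' : q⁻¹ = q := inv_eq_of_mul_eq_one_right q2
  have b1 : q * z * q⁻¹ = z := by rw [h.wq.cent q hq, mul_inv_cancel_right]
  have b2 : q * s * q⁻¹ = z * s := h.wq.conj_eq_of_ne hq h.l.tQ qs
  have b3 : q * (z * s) * q⁻¹ = s := by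
    rw [← conj_mul, b1, b2, ← mul_assoc, h.wq.zz, one_mul]
  have c0 : ∀ v, q * ρ * q * ρ * v * (q * ρ * q * ρ)⁻¹ =
      q * (ρ * (q * (ρ * v * ρ⁻¹) * q⁻¹) * ρ⁻¹) * q⁻¹ := fun v => by group
  have c1 : q * ρ * q * ρ * z = z * (q * ρ * q * ρ) :=
    mul_inv_eq_iff_eq_mul.1 (by rw [c0, h.ρz, b2, h.ρzs, b1])
  have c2 : q * ρ * q * ρ * s = s * (q * ρ * q * ρ) :=
    mul_inv_eq_iff_eq_mul.1 (by rw [c0, h.ρs, b3, h.ρs, b3])
  have c3 : Commute (q * ρ * q * ρ) σ :=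
    ((Commute.mul_left qσ h.σρ.symm).mul_left qσ).mul_left h.σρ.symm
  obtain ⟨v, hv, j, e⟩ := h.cσ ker c1 c3
  have d1 : v ∈ Vs z s := h.fpfQ h.σC h.oσ ⟨⟨hv.1, mem_Ce.2 (by
    rw [eq_mul_inv_of_mul_eq e]
    exact Commute.mul_left c2 (Commute.zpow_left (Pr.mem_cV.1 h.σC).2 j).inv_left)⟩, hv.2⟩
  have d2 : q * v * q⁻¹ = ρ * v * ρ⁻¹ := by
    have e1 : Commute (σ ^ j)⁻¹ q := (Commute.zpow_right qσ j).symm.inv_left
    have e2 : Commute ρ (σ ^ j)⁻¹ := (Commute.zpow_left h.σρ j).inv_left.symm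
    calc _ = q * q * ρ * q * ρ * ((σ ^ j)⁻¹ * q⁻¹) := by rw [eq_mul_inv_of_mul_eq e]; group
      _ = ρ * q * ρ * q * (ρ * (σ ^ j)⁻¹ * ρ⁻¹) := by
        rw [q2, q', e1, e2, mul_inv_cancel_right, one_mul, ← mul_assoc]
      _ = _ := by rw [eq_mul_inv_of_mul_eq e]; group
  rcases h.l.pr.mem_V.1 d1 with rfl | rfl | rfl | rfl
  · exact ⟨q, hq, q2, qs, qσ, j, by simpa using e⟩
  · rw [b1, h.ρz] at d2
    exact absurd d2.symm h.l.ne
  · refine ⟨q * z, mul_mem hq h.wq.mem, ?_, fun e => qs ?_,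
      Commute.mul_left qσ (Pr.mem_cV.1 h.σC).1.symm, j, ?_⟩
    · rw [mul_assoc, ← mul_assoc z, ← h.wq.cent q hq, mul_assoc, h.wq.zz, mul_one, q2]
    · rw [mul_assoc, ← h.l.pr.tz, ← mul_assoc, ← mul_assoc] at e
      exact mul_right_cancel e
    · calc _ = v * (v * σ ^ j) := by rw [← mul_assoc, h.wp.zz, one_mul]
        _ = q * (z * (ρ * z * ρ⁻¹)) * q⁻¹ * (q * ρ * q * ρ) := by rw [e, h.ρz, b3]
        _ = q * z * ρ * (z * q) * ρ := by group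
        _ = _ := by rw [h.wq.cent q hq]
  · rw [b3, h.ρzs] at d2
    exact absurd d2 h.l.ne

end JD

/-- the full configuration -/
structure JQ (Q P : Subgroup G) (z s σ ρ t q w : G) : Prop extends JD Q P z s σ ρ t where
  hq : q ∈ Q
  q2 : q * q = 1
  qs : q * s ≠ s * q
  qσ : q * σ = σ * q
  qρ : q * ρ * q * ρ = σ
  w2 : w * w = 1
  sw : Sw Q P z s ρ w
  wz : w * z * w⁻¹ = t

namespace JQ

variable {Q P : Subgroup G} {z s σ ρ t x y u a q g v w : G} (h : JQ Q P z s σ ρ t q w)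
include h

theorem q' : q⁻¹ = q := inv_eq_of_mul_eq_one_right h.q2
theorem w' : w⁻¹ = w := inv_eq_of_mul_eq_one_right h.w2
theorem qρ' : q * ρ * q⁻¹ = σ * ρ⁻¹ := by rw [h.q', ← h.qρ, mul_inv_cancel_right]
theorem flip (e : w * x * w⁻¹ = y) : w * y * w⁻¹ = x := by
  calc _ = w * w * x * (w * w)⁻¹ := by rw [← e]; group
    _ = _ := by rw [h.w2]; group
theorem flipq (x : G) : q * (q * x * q⁻¹) * q⁻¹ = x := by
  calc _ = q * q * x * (q * q)⁻¹ := by group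
    _ = _ := by rw [h.q2]; group

theorem t' : t⁻¹ = t := inv_eq_of_mul_eq_one_right h.tt

theorem utu : q * t * q⁻¹ * t * (q * t * q⁻¹)⁻¹ = z * t := by
  calc _ = t⁻¹ * (t * q * (t * q⁻¹) * (t * q * (t⁻¹ * q⁻¹))) := by group
    _ = _ := by rw [h.q', h.t', h.tq4 h.hq h.q2 h.qs, h.Rz h.tR]

theorem qR (hx : x ∈ RR Q P z s) : q * x * q⁻¹ ∈ RR Q P z s := (h.M_norm (h.l.pr.le_norm h.hq) x).1 hx

theorem τu : Commute (σ * ρ⁻¹) (q * t * q⁻¹) := by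
  rw [← h.qρ', commute_iff_eq, conj_mul, conj_mul, h.tρ]

theorem neps : w * σ * w⁻¹ ≠ ρ := fun e => by
  have a1 := h.flip e
  have a2 : w * (σ * ρ⁻¹) * w⁻¹ = (σ * ρ⁻¹)⁻¹ := by
    rw [← conj_mul, ← conj_inv, e, a1]; group
  have a3 : w * (z * t) * w⁻¹ = z * t := by rw [← conj_mul, h.wz, h.flip h.wz, h.Rz h.tR]
  have a4 := h.τu
  have a5 := h.utu
  have a6 := h.RA (h.qR h.tR)
  generalize q * t * q⁻¹ = u at a4 a5 a6
  have b1 := h.NAz (mul_mem (mul_mem (mul_mem h.sw.n (inv_mem a6)) h.sw.n)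
    (inv_mem (mul_mem h.sw.n (inv_mem a6)))) (mul_inv_eq_iff_eq_mul.1 (by
      nth_rw 1 [← h.flip h.wz]
      calc _ = w * u⁻¹ * (w * (u * t * u⁻¹) * w⁻¹) * u * w⁻¹ := by group
        _ = w * u⁻¹ * (u * t * u⁻¹) * u * w⁻¹ := by rw [a5, a3]
        _ = w * t * w⁻¹ := by group
        _ = z := h.flip h.wz)) _ (h.sw.uv _ ((h.σU t).1 h.tU))
  have b2 : σ * ρ⁻¹ * (z * t) * (σ * ρ⁻¹)⁻¹ = u * (σ * t * σ⁻¹) * u⁻¹ := by
    calc _ = σ * ρ⁻¹ * u * t * (σ * ρ⁻¹ * u)⁻¹ := by rw [← a5]; group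
      _ = u * (σ * (ρ⁻¹ * (t * ρ)) * σ⁻¹) * u⁻¹ := by rw [a4]; group
      _ = _ := by rw [h.tρ]; group
  have b3 : w * (u * (σ * t * σ⁻¹) * u⁻¹) * w⁻¹ = u * (σ * t * σ⁻¹) * u⁻¹ := by
    calc _ = (w * u⁻¹)⁻¹ * (w * u⁻¹ * w * (w * u⁻¹)⁻¹ * (w * (σ * t * σ⁻¹) * w⁻¹)) * (w * u⁻¹) * w⁻¹ := by
          group
      _ = _ := by rw [← b1]; group
  have b4 := fix_of_sq (a := σ * ρ⁻¹) (x := z * t) (by
    rw [(Commute.inv_right h.σρ).mul_pow, inv_pow, h.σ3, h.ρ3]; simp) (by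
      rw [← b2] at b3
      rw [← b3]
      generalize σ * ρ⁻¹ = τ at a2 ⊢
      calc _ = τ * (w * τ * w⁻¹ * (w * (z * t) * w⁻¹) * (w * τ * w⁻¹)⁻¹) * τ⁻¹ := by group
        _ = _ := by rw [a2, a3]; group)
  rw [b2, ← a5, mul_left_inj, mul_right_inj, mul_inv_eq_iff_eq_mul] at b4
  exact h.σt b4

variable (wσ : w * σ * w⁻¹ = ρ⁻¹)
include wσ

theorem wρ : w * ρ * w⁻¹ = σ⁻¹ := by
  have := congrArg (·⁻¹) (h.flip wσ)
  simpa [mul_assoc] using this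

theorem krel : ∃ x, (x = t ∨ x = σ * t * σ⁻¹ ∨ x = σ⁻¹ * t * σ) ∧ (w * (q * x * q⁻¹)) ^ 3 = 1 := by
  let Y := (NN Q P z s ρ).comap (MulAut.conj q).toMonoidHom ⊓ Ce ρ
  have a0 : ∀ g, q * g * q⁻¹ ∈ NN Q P z s ρ → g * ρ = ρ * g → g ∈ Y := fun g e e' => ⟨e, mem_Ce.2 e'⟩
  have a1 : ρ ∈ Y := a0 ρ (h.qρ' ▸ mul_mem h.σA (inv_mem h.ρN)) rfl
  have a2 : UU Q P z s ρ ≤ Y := fun u hu => a0 u (h.RA (h.qR hu.1)) (mem_Ce.1 hu.2)
  have a3 : σ ∈ Y := a0 σ (by rw [h.qσ, mul_inv_cancel_right]; exact h.σA) h.σρ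
  have a4 : q * w * q⁻¹ * ρ = ρ * (q * w * q⁻¹) := by
    rw [← h.flipq ρ, h.qρ', conj_mul, conj_mul, ← mul_inv_eq_iff_eq_mul.1 (show
      w * (σ * ρ⁻¹) * w⁻¹ = σ * ρ⁻¹ by
        rw [← conj_mul, ← conj_inv, wσ, h.wρ wσ, inv_inv, Commute.inv_right h.σρ])]
  have a5 : q * w * q⁻¹ ∈ Y := a0 _ (by rw [h.flipq]; exact h.sw.n) a4
  have a6 : q * w * q⁻¹ * (q * w * q⁻¹) = 1 := by rw [conj_mul, h.w2]; simp
  rcases four_rec' a1 inf_le_right (by rw [h.oρ]; decide) h.kleinU a2 (fun u hu u1 g hg => by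
    obtain ⟨a, ha, i, e⟩ := dec3 h.ρN ((h.swap hu u1).CM.le ⟨hg.2,
      mem_normalizer_of_conj_le fun v hv => by
        have b1 : q * (g * v * g⁻¹) * q⁻¹ ∈ AA Q P z s ρ := by
          have := (hg.1.1 _).1 (mem_sup_left ((h.l.pr.le_norm h.hq v).1 hv) : _ ∈ AA Q P z s ρ)
          rwa [show (MulAut.conj q).toMonoidHom g = q * g * q⁻¹ from rfl,
            show q * g * q⁻¹ * (q * v * q⁻¹) * (q * g * q⁻¹)⁻¹ = q * (g * v * g⁻¹) * q⁻¹ by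
              group] at this
        obtain ⟨v', hv', u', hu', e⟩ := h.A_dec ((h.swap hu u1).CR.le ⟨mul_mem (mul_mem hg.2
          (mem_Ce.2 (h.RV hu.1 hv))) ((Ce u).inv_mem hg.2), h.flipq (g * v * g⁻¹) ▸ h.qR (h.AR b1)⟩)
        rw [← e, ← conj_mul] at b1
        rwa [← e, h.qU h.hq h.qs hu' (((AA Q P z s ρ).mul_mem_cancel_left
          (mem_sup_left ((h.l.pr.le_norm h.hq v').1 hv'))).1 b1), mul_one]⟩)
    rw [← e]
    refine mul_mem_sup ⟨h.AR ha, ?_⟩ (zpow_mem_zpowers ρ i)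
    rw [eq_mul_inv_of_mul_eq e]
    exact (Ce ρ).mul_mem hg.1.2 (inv_mem (zpow_mem (mem_Ce.2 rfl) i))) h.tU h.σ3 a3 h.σU h.σt with e | ⟨φ, -, e⟩
  · have b1 := card_dvd_of_le (le_inf a2 h.UM)
    have b2 := card_dvd_of_le (show EE σ ρ ≤ Y ⊓ NV z s from sup_le (zpowers_le.2 ⟨a1, h.ρM⟩)
      (zpowers_le.2 ⟨a3, centralizer_le_normalizer _ h.σC⟩))
    rw [h.cardU] at b1
    rw [h.cardE] at b2
    have b3 := Nat.le_of_dvd Nat.card_pos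
      ((show Nat.Coprime 4 9 by norm_num).mul_dvd_of_dvd_of_dvd b1 b2)
    have b4 := ((eq_of_le_of_card_ge inf_le_left (by rw [e, h.oρ]; exact b3)).ge a5).2
    have b5 := (h.l.pr.le_norm h.hq _).1 ((b4 _).1 ((h.l.pr.le_norm h.hq z).1 Pr.z_mem))
    rw [conj_inv, conj_mul, conj_mul, h.wz, h.flipq] at b5
    exact absurd (h.l.pr.V_le b5) h.tQ
  have m : ∀ (y : Y) (n : ℕ), y.1 ^ n ∈ zpowers ρ ↔ φ y ^ n = 1 := fun y n => by
    rw [← map_pow, e]; rfl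
  obtain ⟨f, f1, f2⟩ := A5_norm (ρ := φ ⟨σ, a3⟩) (α := φ ⟨t, a2 h.tU⟩)
    ((m _ 3).1 (h.σ3 ▸ one_mem _))
    (fun e' => sq_ne_of_three h.oσ (by rw [h.nzp (mem_zpowers σ) ((e _).1 e'), one_mul]))
    (by rw [← map_mul, e]; exact (show t * t ∈ zpowers ρ by rw [h.tt]; exact one_mem _))
    (fun e' => h.t1 (eq_one_of_23 (k := 2) h.cardU h.oρ h.tU ((e _).1 e')))
    (by rw [← map_mul, ← m]; exact (show (σ * t) ^ 3 ∈ zpowers ρ by rw [h.σt3]; exact one_mem _))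
  obtain ⟨W, hW⟩ := f.surjective (φ ⟨_, a5⟩)
  have c : ∀ (x : Y) (X : A5), f X = φ x → x.1 * x = 1 → (W * X) ^ 3 = 1 →
      (w * (q * x * q⁻¹)) ^ 3 = 1 := fun x X e1 e2 e3 => by
    have c1 := eq_one_of_inv h.oρ ((m (⟨_, a5⟩ * x) 3).2 (by
      rw [map_mul, ← e1, ← hW, ← map_mul, ← map_pow, e3, map_one])) a4 (by
        change _ * (q * w * q⁻¹ * x) ^ 3 * _ = ((q * w * q⁻¹ * x) ^ 3)⁻¹
        generalize q * w * q⁻¹ = W at a6
        rw [← conj_pow, ← inv_pow, mul_inv_rev, inv_eq_of_mul_eq_one_right a6,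
          inv_eq_of_mul_eq_one_right e2, ← mul_assoc, a6, one_mul])
    rw [← h.flipq w, conj_mul, conj_pow]
    rw [coe_mul] at c1
    rw [c1]; simp
  have tt : ∀ a : G, a * t * a⁻¹ * (a * t * a⁻¹) = 1 := fun a => by rw [conj_mul, h.tt]; simp
  rcases A5_w W (f.injective (by 
    rw [map_mul, hW, ← map_mul, map_one, e]
    exact (show q * w * q⁻¹ * (q * w * q⁻¹) ∈ zpowers ρ by rw [a6]; exact one_mem _)))
    (f.injective (by
      simp only [map_mul, hW, f1, map_one]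
      rw [← map_mul, ← map_mul, ← map_mul, e]
      refine ⟨1, ?_⟩
      change ρ ^ (1 : ℤ) = q * w * q⁻¹ * σ * (q * w * q⁻¹) * σ
      calc _ = (σ * ρ⁻¹)⁻¹ * σ := by group
        _ = q * (w * σ * w⁻¹) * q⁻¹ * σ := by rw [wσ, ← h.qρ']; group
        _ = q * w * q⁻¹ * (q * σ) * w * q⁻¹ * σ := by rw [h.w']; group
        _ = _ := by rw [h.qσ]; group)) with e' | e' | e'
  · exact ⟨_, Or.inl rfl, c ⟨t, a2 h.tU⟩ _ f2 h.tt e'⟩
  · exact ⟨_, Or.inr (Or.inl rfl), c (⟨σ, a3⟩ * ⟨t, a2 h.tU⟩ * ⟨σ, a3⟩⁻¹) _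
      (by simp only [map_mul, map_inv, f1, f2]) (tt σ) e'⟩
  · exact ⟨_, Or.inr (Or.inr rfl), c (⟨σ, a3⟩⁻¹ * ⟨t, a2 h.tU⟩ * ⟨σ, a3⟩) _
      (by simp only [map_mul, map_inv, f1, f2]) (by simpa using tt σ⁻¹) e'⟩

theorem qw9 {π : Ce z →* A5} (ker : ∀ x, π x = 1 ↔ x.1 ∈ Q)
    (hone : ∀ x y : G, orderOf x = 2 → orderOf y = 2 → IsConj x y) : ((q * w) ^ 3) ^ 3 = 1 := by
  have b : ∀ x, q * w * x * (q * w)⁻¹ = q * (w * x * w⁻¹) * q⁻¹ := fun x => by group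
  have a1 : q * w * σ * (q * w)⁻¹ = ρ * σ⁻¹ := by rw [b, wσ, conj_inv.symm, h.qρ']; group
  have a2 : q * w * ρ * (q * w)⁻¹ = σ⁻¹ := by
    rw [b, h.wρ wσ, conj_inv.symm, h.qσ, mul_inv_cancel_right]
  have a0 : q * (q * w) ^ 3 * q⁻¹ = ((q * w) ^ 3)⁻¹ := by
    rw [← conj_pow, ← inv_pow, mul_inv_rev, h.q', h.w', ← mul_assoc, h.q2, one_mul]
  generalize q * w = x at a0 a1 a2 ⊢
  clear b
  have b : ∀ y, x ^ 3 * y * (x ^ 3)⁻¹ = x * (x * (x * y * x⁻¹) * x⁻¹) * x⁻¹ := fun y => by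
    rw [pow_three]; group
  have a3 : x * (ρ * σ⁻¹) * x⁻¹ = ρ⁻¹ := by
    rw [← conj_mul, ← conj_inv, a1, a2, mul_inv_rev, inv_inv, inv_mul_cancel_left]
  have a4 : x ^ 3 * σ = σ * x ^ 3 :=
    mul_inv_eq_iff_eq_mul.1 (by rw [b, a1, a3, ← conj_inv, a2, inv_inv])
  have a5 : x ^ 3 * ρ = ρ * x ^ 3 := mul_inv_eq_iff_eq_mul.1 (by
    rw [b, a2, ← conj_inv, a1, ← conj_inv, a3, inv_inv])
  generalize x ^ 3 = y at a0 a4 a5 ⊢
  have a6 : Odd (orderOf y) := Nat.not_even_iff_odd.1 fun e => by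
    obtain ⟨j, ⟨n, rfl⟩, hj⟩ := exists_ord Nat.prime_two (K := zpowers y)
      (by rw [Nat.card_zpowers]; exact e.two_dvd)
    have := card_dvd_of_le (show EE σ ρ ≤ Ce (y ^ n) from sup_le
      (zpowers_le.2 (mem_Ce.2 (Commute.zpow_left a5 n).symm))
      (zpowers_le.2 (mem_Ce.2 (Commute.zpow_left a4 n).symm)))
    rw [h.cardE, card_Ce_conj (hone _ _ h.wq.ord hj), h.wq.ch] at this
    omega
  refine eq_one_of_inv h.oσ ?_ h.qσ (by rw [← conj_pow, a0, inv_pow])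
  let Z := (zpowers σ).subgroupOf (Ce σ)
  have hc : ∀ c ∈ zpowers σ, ∀ y ∈ Ce σ, y * c = c * y := fun c ⟨n, hn⟩ y hy =>
    hn ▸ Commute.zpow_right (mem_Ce.1 hy) n
  haveI : Z.Normal := ⟨fun a ha b => by
    rwa [show b * a * b⁻¹ = a from Subtype.ext (by simp [hc a ha b b.2])]⟩
  let φ := QuotientGroup.mk' Z
  have k1 : ∀ a : Ce σ, φ a = 1 ↔ a.1 ∈ zpowers σ := fun a => QuotientGroup.eq_one_iff (N := Z) a
  have k2 : ∀ a : Ce σ, a.1 ∈ Q → φ a = 1 → a.1 = 1 := fun a ha e =>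
    eq_one_of_23 (k := 5) h.wq.cq h.oσ ha ((k1 a).1 e)
  have k3 : ∀ a : Ce σ, a.1 ∈ Q → a.1 * a = 1 → a.1 ≠ 1 → orderOf (φ a) = 2 := fun a ha e e' =>
    orderOf_eq_prime (by rw [sq, ← map_mul, show a * a = 1 from Subtype.ext e, map_one])
      fun e => e' (k2 a ha e)
  let Z0 : Ce σ := ⟨z, mem_Ce.2 h.σz.symm⟩
  let S0 : Ce σ := ⟨s, mem_Ce.2 (Pr.mem_cV.1 h.σC).2.symm⟩
  let Q0 : Ce σ := ⟨q, mem_Ce.2 h.qσ⟩
  let R0 : Ce σ := ⟨ρ, mem_Ce.2 h.σρ.symm⟩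
  have c1 : S0 * Q0 * (S0 * Q0) = Z0 := Subtype.ext (by
    change s * q * (s * q) = z
    rw [h.wq.sq_mul h.l.tQ h.hq h.qs, h.wp.zz, h.q2, mul_one, mul_one])
  have c2 : closure {φ S0, φ Q0} = Ce (φ Z0) := by
    refine le_antisymm ((closure_le _).2 ?_) fun a ha => ?_
    · rintro _ (rfl | rfl)
      · exact mem_Ce.2 (by rw [← map_mul, ← map_mul]; exact congrArg φ (Subtype.ext h.l.pr.tz))
      · exact mem_Ce.2 (by
          rw [← map_mul, ← map_mul]; exact congrArg φ (Subtype.ext (h.wq.cent q h.hq)))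
    obtain ⟨a, rfl⟩ := QuotientGroup.mk'_surjective Z a
    have d1 : ⁅a.1, z⁆ ∈ zpowers σ := (k1 ⁅a, Z0⁆).1 (by
      rw [map_commutatorElement, commutatorElement_eq_one_iff_mul_comm]; exact mem_Ce.1 ha)
    have d2 : ⁅a.1, z⁆ = 1 := eq_one_of_inv h.oσ d1 h.σz.symm (by
      rw [commutatorElement_inv, commutatorElement_def, commutatorElement_def, h.wq.inv_z,
        mul_assoc z, mul_assoc _ z z, h.wq.zz]
      group)
    obtain ⟨v, hv, j, e⟩ := h.cσ ker (commutatorElement_eq_one_iff_mul_comm.1 d2) (mem_Ce.1 a.2)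
    have d3 : ∀ v : Ce σ, v.1 ∈ Q → v.1 * s = s * v → φ v ∈ closure {φ S0, φ Q0} := fun v hv e => by
      have s1 : φ S0 ∈ closure {φ S0, φ Q0} := subset_closure (by simp)
      have s2 : φ Z0 ∈ closure {φ S0, φ Q0} := by
        have : φ (S0 * Q0) ∈ closure {φ S0, φ Q0} := mul_mem s1 (subset_closure (Or.inr rfl))
        exact c1 ▸ mul_mem this this
      rcases h.l.pr.mem_V.1 (h.fpfQ h.σC h.oσ ⟨⟨hv, mem_Ce.2 e⟩, v.2⟩) with e | e | e | e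
      · rw [show v = 1 from Subtype.ext e]; exact one_mem _
      · rwa [show v = Z0 from Subtype.ext e]
      · rwa [show v = S0 from Subtype.ext e]
      · rw [show v = Z0 * S0 from Subtype.ext e]; exact mul_mem s2 s1
    rw [show a = ⟨v, hv.2⟩ * ⟨σ ^ j, zpow_mem (mem_Ce.2 rfl) j⟩ from Subtype.ext e.symm, map_mul,
      (k1 ⟨σ ^ j, _⟩).2 (zpow_mem_zpowers σ j), mul_one]
    by_cases e' : v * s = s * v
    · exact d3 ⟨v, hv.2⟩ hv.1 e'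
    refine ((closure {φ S0, φ Q0}).mul_mem_cancel_right (subset_closure (by simp) : φ Q0 ∈ _)).1
      (d3 (⟨v, hv.2⟩ * Q0) (mul_mem hv.1 h.hq) (mul_inv_eq_iff_eq_mul.1 ?_))
    change v * q * s * (v * q)⁻¹ = s
    calc _ = v * (q * s * q⁻¹) * v⁻¹ := by group
      _ = _ := by
        rw [h.wq.conj_eq_of_ne h.hq h.l.tQ h.qs, ← conj_mul, h.wq.conj_eq_of_ne hv.1 h.l.tQ e',
          h.wq.cent v hv.1, mul_inv_cancel_right, ← mul_assoc, h.wq.zz, one_mul]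
  have c3 : orderOf (φ S0 * φ Q0) = 2 ^ (1 + 1) := orderOf_eq_prime_pow (by
    rw [pow_one, sq, ← map_mul, ← map_mul, c1]; exact fun e => h.wq.ne_one (k2 _ h.wq.mem e)) (by
    rw [pow_succ, pow_mul, pow_one, sq (φ S0 * φ Q0), ← map_mul, ← map_mul, c1, sq, ← map_mul,
      show Z0 * Z0 = 1 from Subtype.ext h.wq.zz, map_one])
  have c4 := k3 Z0 h.wq.mem h.wq.zz h.wq.ne_one
  have c5 := S0206.result _ _ (k3 S0 h.l.tQ h.wp.zz h.wp.ne_one)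
    (k3 Q0 h.hq h.q2 fun e : q = 1 => h.qs (by simp [e])) fun e => by
      rw [e, ← map_mul, show Q0 * Q0 = 1 from Subtype.ext h.q2, map_one, orderOf_one] at c3
      omega
  rw [c2, c3] at c5
  have c6 : orderOf (φ R0) = 3 := orderOf_eq_prime (by
    rw [← map_pow, show R0 ^ 3 = 1 from Subtype.ext h.ρ3, map_one]) fun e => by
      have e1 : ρ = 1 := h.nzp ((k1 R0).1 e) (mem_zpowers ρ)
      have := h.oρ
      rw [e1, orderOf_one] at this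
      omega
  have c7 : J3T.Small (Ce σ ⧸ Z) := by
    rcases S3035.result _ c4 c5 with e | ⟨⟨e⟩⟩ | ⟨⟨e⟩⟩ | ⟨⟨e⟩⟩ | ⟨⟨e⟩⟩
    · exfalso
      obtain ⟨c, hc, o, ho, e'⟩ := mem_sup_of_normal_right.1 (e.ge (mem_top (φ R0)))
      obtain ⟨f⟩ := c5
      have d1 : c ^ 8 = 1 := congrArg Subtype.val (show (⟨c, hc⟩ : Ce (φ Z0)) ^ 8 = 1 by
        rw [show 8 = Nat.card (Ce (φ Z0)) by rw [Nat.card_congr f.toEquiv, DihedralGroup.nat_card]; rfl,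
          pow_card_eq_one'])
      let ψ := QuotientGroup.mk' (oddCore (Ce σ ⧸ Z))
      have d2 : ψ (φ R0) = ψ c := by
        rw [← e', map_mul, show ψ o = 1 from (QuotientGroup.eq_one_iff o).2 ho, mul_one]
      have d3 : ψ (φ R0) = 1 := by
        calc _ = ψ (φ R0) ^ (8 + 1) := by rw [pow_succ, d2, ← map_pow, d1, map_one, one_mul]
          _ = 1 := by rw [← map_pow, show 8 + 1 = 3 * 3 from rfl, pow_mul, ← c6,
            pow_orderOf_eq_one, one_pow, map_one]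
      have d4 : φ (S0 * Z0⁻¹) ∈ oddCore (Ce σ ⧸ Z) := (QuotientGroup.eq_one_iff _).1 (by
        change ψ _ = 1
        rw [show S0 = R0 * Z0 * R0⁻¹ from Subtype.ext h.ρz.symm]
        simp only [map_mul, map_inv, d3]
        simp)
      haveI : Fact (Nat.Prime 2) := ⟨Nat.prime_two⟩
      exact H1.not_dvd_card_pPrimeCore 2 _ (k3 (S0 * Z0⁻¹) (mul_mem h.l.tQ (inv_mem h.wq.mem))
        (H11.klein_sq h.klein (mul_mem Pr.t_mem (inv_mem Pr.z_mem)))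
        (fun e => h.l.ne (mul_inv_eq_one.1 e)) ▸ Subgroup.orderOf_dvd_natCard _ d4)
    · exact J3T.small4.of_inj e.toMonoidHom e.injective
    · exact J3T.small5.of_inj e.toMonoidHom e.injective
    · exact J3T.smallL3.of_inj e.toMonoidHom e.injective
    · exact J3T.smallA6.of_inj e.toMonoidHom e.injective
  refine (k1 (⟨y, mem_Ce.2 a4⟩ ^ 3)).1 ((map_pow _ _ _).trans (c7.cube c6 ?_ (a6.of_dvd_nat ?_)))
  · rw [commute_iff_eq, ← map_mul, ← map_mul]; exact congrArg φ (Subtype.ext a5.symm)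
  · exact (orderOf_map_dvd _ _).trans (orderOf_coe _).symm.dvd

end JQ

end Cfsg.Agent.J2T
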