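import Cfsg.Agent.J3T.C
import Cfsg.Agent.H16.J3e
import Cfsg.Agent.H12.TC
import Cfsg.Agent.BS.BY
import Cfsg.Agent.S0223

/-! Recognition of `J₃` from the amalgam relations. -/

set_option autoImplicit false
set_option maxRecDepth 100000
set_option Elab.async false

namespace Cfsg.Agent.J3T

open H17 Subgroup

/-- the weights -/
def ε (x : ℕ) : Multiplicative (ZMod 3) :=
  Multiplicative.ofAdd (([0, 0, 0, 0, 0, 1, 2, 2, 1] : List (ZMod 3)).getD x 0)

theorem εinv : Inv 5 ε := inv_of_sat (nc := 9) rfl (by decide) (fun x hx => by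
  obtain ⟨y, rfl⟩ := Nat.exists_eq_add_of_le' hx
  rfl) (by unfold Sat; decide +kernel)

theorem εsat : Sat ε J3U.R0 := by unfold Sat; decide +kernel

def cw : List ℕ := (List.replicate 8 [3, 0, 2, 5, 1, 3, 2]).flatten

theorem εc : ∀ e, e = ev ε cw ^ 0 ∨ e = ev ε cw ^ 1 ∨ e = ev ε cw ^ 2 := by decide +kernel

theorem inv_prod {G H : Type*} [Group G] [Group H] {k : ℕ} {g : ℕ → G} {m : ℕ → H} (a : Inv k g)
    (b : Inv k m) : Inv k fun x => (g x, m x) := fun x => Prod.ext (a x) (b x)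

theorem sat_prod {G H : Type*} [Group G] [Group H] {R : List (List ℕ)} {g : ℕ → G} {m : ℕ → H}
    (a : Sat g R) (b : Sat m R) : Sat (fun x => (g x, m x)) R := fun r hr => Prod.ext
  ((map_ev (MonoidHom.fst G H) _ r).trans (a r hr))
  ((map_ev (MonoidHom.snd G H) _ r).trans (b r hr))

theorem top_prod {H : Type*} [Group H] {m : ℕ → H} (top : wgrp m J3U0.σ = ⊤) (cen : ev m cw = 1) :
    wgrp (fun x => (m x, ε x)) J3U0.σ = ⊤ := by
  refine eq_top_iff.2 fun x _ => ?_
  obtain ⟨y, hy, e⟩ : x.1 ∈ (wgrp (fun x => (m x, ε x)) J3U0.σ).map (MonoidHom.fst _ _) := by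
    rw [map_wgrp (MonoidHom.fst H _) (g := fun x => (m x, ε x)) (h := m) (fun _ => rfl), top]
    exact mem_top _
  have a1 : ((1 : H), ev ε cw) ∈ wgrp (fun x => (m x, ε x)) J3U0.σ := by
    have : ev (fun x => (m x, ε x)) cw ∈ wgrp (fun x => (m x, ε x)) J3U0.σ := ev_mem fun x hx => by
      simpa using mem_wgrp (fun x => (m x, ε x)) ((by decide +kernel : ∀ x ∈ cw, [x] ∈ J3U0.σ) x hx)
    rwa [show ev (fun x => (m x, ε x)) cw = (1, ev ε cw) from Prod.ext
      ((map_ev (MonoidHom.fst H _) (fun x => (m x, ε x)) cw).trans cen) 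
        (map_ev (MonoidHom.snd H _) (fun x => (m x, ε x)) cw)] at this
  have a2 : ∀ n : ℕ, y⁻¹.2 * x.2 = ev ε cw ^ n → x ∈ wgrp (fun x => (m x, ε x)) J3U0.σ :=
    fun n e' => by
      have := mul_mem hy (pow_mem a1 n)
      rwa [show y * ((1 : H), ev ε cw) ^ n = x from Prod.ext (by simpa using e)
        (by simp [← e'])] at this
  rcases εc (y⁻¹.2 * x.2) with e | e | e <;> exact a2 _ e

theorem emb0 {G H : Type*} [Group G] [Group H] {m : ℕ → H}
    (inv0 : Inv 5 m) (sat0 : Sat m J3U.R0) (top : wgrp m J3U0.σ = ⊤)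
    (card : Nat.card H = 150698880) {g : ℕ → G} (hI : Inv 5 g) (hR : Sat g J3U.R0) :
    ∃ f : H →* G, f (m 0) = g 0 := by
  have h0 := J3U.card0 (g := fun x => (m x, g x)) (inv_prod inv0 hI) (sat_prod sat0 hR)
  rw [← card] at h0
  haveI := h0.1
  obtain ⟨f, hf⟩ := H12.exists_hom_of_card_le (wgrp (fun x => (m x, g x)) J3U0.σ)
    ((map_wgrp (MonoidHom.fst H G) (fun _ => rfl) _).trans top) h0.2
  have := hf _ (mem_wgrp (fun x => (m x, g x)) (u := [0]) (by decide +kernel))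
  simp only [ev_cons, ev_nil, mul_one] at this
  exact ⟨f, this⟩

theorem emb {G H : Type*} [Group G] [Group H] [IsSimpleGroup H] {m : ℕ → H}
    (inv0 : Inv 5 m) (sat0 : Sat m J3U.R0) (top : wgrp m J3U0.σ = ⊤) (cen : ev m cw = 1)
    (card : Nat.card H = 50232960) {g : ℕ → G} (hI : Inv 5 g) (hR : Sat g J3U.R0)
    (h1 : g 0 ≠ 1) : ∃ f : H →* G, Function.Injective f := by
  obtain ⟨f, hf⟩ := emb0 (inv_prod inv0 εinv) (sat_prod sat0 εsat) (top_prod top cen) (by
    rw [Nat.card_prod, card, Nat.card_congr Multiplicative.toAdd, Nat.card_zmod]) hI hR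
  refine ⟨f.comp (MonoidHom.inl _ _), (MonoidHom.ker_eq_bot_iff _).1
    (((MonoidHom.normal_ker _).eq_bot_or_eq_top).resolve_right fun e => h1 ?_)⟩
  have a : f (m 0, 1) = 1 := MonoidHom.mem_ker.1 (e.ge (mem_top (m 0)))
  rw [← hf, show ε 0 = 1 from rfl, a]

theorem onto {G H : Type*} [Group G] [Finite G] [Group H] [Finite H] [IsSimpleGroup H]
    {f : H →* G} (hf : Function.Injective f) (card : Nat.card H = 50232960)
    (hone : ∀ x y : H, orderOf x = 2 → orderOf y = 2 → IsConj x y)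
    (c1 : ∀ x : H, orderOf x = 2 → Nat.card (centralizer {x}) = 1920)
    (c2 : ∀ x : G, orderOf x = 2 → Nat.card (centralizer {x}) = 1920) (two : BS.Two G) :
    Function.Surjective f := by
  rw [← MonoidHom.range_eq_top]
  by_contra hne
  let e := MonoidHom.ofInjective hf
  have se := (S0223.result f.range hne (by
    rw [← Nat.card_congr e.toEquiv, card]; decide)).2 ⟨?_, ?_⟩
  · haveI := BS.Bd.sol_of_se se two
    haveI : Group.IsSolvable H := solvable_of_solvable_injective (f := e.toMonoidHom) e.injective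
    have a := IsSimpleGroup.comm_iff_isSolvable.2 this
    haveI : Fact (Nat.Prime 2) := ⟨Nat.prime_two⟩
    obtain ⟨x, hx⟩ := exists_prime_orderOf_dvd_card' (G := H) 2 (by rw [card]; decide)
    have := c1 x hx
    rw [(eq_top_iff (a := centralizer {x})).2 fun y _ => mem_centralizer_singleton_iff.2 (a y x),
      card_top, card] at this
    omega
  · rintro _ ⟨x, rfl⟩ hx
    have := eq_of_le_of_card_ge (H := (centralizer {x}).map f) (K := centralizer {f x})
      (by
        rintro _ ⟨y, hy, rfl⟩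
        rw [mem_centralizer_singleton_iff, ← map_mul, ← map_mul,
          mem_centralizer_singleton_iff.1 hy])
      (by rw [card_map_of_injective hf, c2 _ hx, c1 x ((orderOf_injective f hf x).symm.trans hx)])
    exact this.ge.trans (map_le_range _ _)
  · rintro _ ⟨x, rfl⟩ _ ⟨y, rfl⟩ hx hy -
    obtain ⟨c, rfl⟩ := isConj_iff.1 (hone x y ((orderOf_injective f hf x).symm.trans hx)
      ((orderOf_injective f hf y).symm.trans hy))
    exact ⟨f c, ⟨c, rfl⟩, by simp⟩

namespace Mod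

open H16 H16.J3 H16.Mdl

theorem hh : Q4 (el4 2) ix9 9 := q4 card_F4 (by decide)

noncomputable abbrev KK := K hh

noncomputable def S0 : List ℕ := KS.map Prod.fst ++ KS.map Prod.snd

noncomputable def S1 : List ℕ := [nat_lit 0x114650003ee5b0002f3a10003254b0000e28b0003e8b10003150100022cb100025ffe0000caef0000b7ac000342d8000296d9000116fa000163450002028b000163a70003fcd1, nat_lit 0x3ac340003ee5b0002d6810003af0200007d820001a48600017909000282b9000048c6000069e20000b7ac000103ea000204d5000305bc00010c54000213b5000173f800018ce2, nat_lit 0x372f90000c9220003f50d0000e7820000eb0700000d4300019e530001a0bd0000d55e0001f3400002454600021af7000305f100020f72000287450000a69c00017a6d0002bd34, nat_lit 0xf8960003e7200003342300029cdc0001c92a0002b23500003b2b00036b550001804e00012cea000240d3000047b90001b992000255ce00006b6c000257360002aae000009c8e, nat_lit 0x32e1a00035c770001fc86000080960001e3af0003af16000260fa00006ffc000314900000358d0000efd900010c7800012cd600035f5e00022cc10001f5ca0003f9cb0001211a,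 nat_lit 0x37a310000ae470003108d0000373f00010f300002066c0002f6ed0003bca10000b6240000638c00008e1000011b0500027f24000261b70000d96f0001db960001437f0000487f, nat_lit 0x2fc30000228460000168c0000773f00012f300002166c0002feed00003ea00000b7e60000614e00008d520001188700027f04000261a70000d9670001db92000140bf0003cdbd, nat_lit 0x3babe00007ff6000386ff000087d80000e5f600039b610002e7d300001dd40003404d00017d630003edc90001ff3c0003b19b0003ed840002c2ac0003a6a00003a9da00009bed, nat_lit 0x3e6be00017ff6000306ff00029bd80000c5f60001d7610000b3d3000245d40003424d00017d4d0003ed490001ff7c0003b0950003ed940002c38a0003a78a0003a8f600009bec]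

theorem in0 : (M hh).InL KK S0 := fun p hp => (List.mem_append.1 hp).elim ((kK hh).inL p) fun hp =>
  let ⟨s, hs, e⟩ := List.mem_map.1 hp
  let ⟨g, hg, r⟩ := kK hh s hs
  ⟨g⁻¹, inv_mem hg, e ▸ r.2⟩

theorem in1 : (M hh).InL KK S1 := in0.of_slp [[2, 1, 2, 1, 2, 1, 2, 1],
  [0, 1, 2, 1, 0, 4, 2, 3, 0, 3, 2], [2, 3, 0, 3, 2, 4, 0, 1, 2, 1, 0],
  [1, 1, 0, 3, 3, 3, 4, 1, 1, 1, 2, 3, 3],
  [1, 2, 1, 2, 3, 3, 0, 0, 0, 4, 2, 2, 2, 1, 1, 0, 3, 0, 3], [7, 4, 7], [8, 9, 8], [5, 6], [6, 5],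
  [7, 12, 7], [7, 11, 7]] (by decide +kernel)

noncomputable def m (i : ℕ) : KK := ⟨(in1.nth i).choose, (in1.nth i).choose_spec.1⟩

theorem r1 (w : List ℕ) : (M hh).R (evM o S1 w) (ev m w).1 := by
  have := R_ev3 (M := M hh) (S := S1) (g := fun i => (m i).1)
    (fun i => (in1.nth i).choose_spec.2) w
  rw [show (ev m w).1 = _ from map_ev (Subgroup.subtype KK) m w]
  exact this

theorem sat {R : List (List ℕ)} (h : R.all (fun r => isOne o (evM o S1 r)) = true) :
    Sat m R := fun r hr => Subtype.ext (isOne_spec (r1 r) (List.all_eq_true.1 h r hr))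

theorem ne {u v : List ℕ} (h : neB o pts (evM o S1 u) (evM o S1 v) = true) : ev m u ≠ ev m v :=
  fun e => ne_of_neB (hv hh) hpt (r1 u) (r1 v) h (congrArg Subtype.val e)

theorem big (x : ℕ) (hx : 9 ≤ x) : m x = 1 := by
  obtain ⟨y, rfl⟩ := Nat.exists_eq_add_of_le' hx
  have e0 : ∀ d a0 a1 a2 a3 a4 a5 a6 a7 a8,
      H16.nth d [a0, a1, a2, a3, a4, a5, a6, a7, a8] (y + 9) = d := fun _ _ _ _ _ _ _ _ _ _ => by
    simp [H16.nth, Nat.rec_add_one, show y + 9 = y + 1 + 1 + 1 + 1 + 1 + 1 + 1 + 1 + 1 from rfl]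
  have e : H16.nth o.one S1 (y + 9) = o.one := e0 _ _ _ _ _ _ _ _ _ _
  exact Subtype.ext (R_fun (e ▸ (in1.nth (y + 9)).choose_spec.2) (M hh).R_one)

theorem sat0 : Sat m J3U.R0 := sat (by decide +kernel)

theorem inv0 : Inv 5 m := inv_of_sat (nc := 9) rfl (by decide) big (sat (by decide +kernel))

theorem cen : ev m cw = 1 := sat (R := [cw]) (by decide +kernel) _ List.mem_cons_self

theorem gen {w : List ℕ} {p : ℕ} {g} (r : (M hh).R p g) (h : o.eqb (evM o S1 w) p = true)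
    (hw : ∀ x ∈ w, [x] ∈ J3U0.σ) : g ∈ (wgrp m J3U0.σ).map (Subgroup.subtype KK) :=
  ⟨_, ev_mem fun x hx => by simpa using mem_wgrp m (hw x hx), (M hh).eq_of (r1 w) r h⟩

theorem top : wgrp m J3U0.σ = ⊤ := by
  refine eq_top_iff.2 fun x _ => ?_
  have : KK ≤ (wgrp m J3U0.σ).map (Subgroup.subtype KK) := clo_le' fun p hp g r => by
    have e : KS.map Prod.fst = [H16.nth 0 S0 0, H16.nth 0 S0 1] := by decide +kernel
    rw [e] at hp
    simp only [List.mem_cons, List.not_mem_nil, or_false] at hp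
    rcases hp with rfl | rfl
    · exact gen (w := [3, 4, 8, 2, 0, 8, 3, 2, 3, 2, 3, 4, 1, 5, 2, 3, 2, 3, 2, 3, 1, 2, 3, 1, 4, 5,
        4, 1, 5]) r (by decide +kernel) (by decide +kernel)
    · exact gen (w := [1, 4, 5, 1, 2, 3, 2, 3, 2, 3, 1, 2, 3, 1, 2, 3, 1, 6, 1, 4, 8, 2]) r
        (by decide +kernel) (by decide +kernel)
  exact (Subgroup.mem_map_iff_mem (Subgroup.subtype_injective KK)).1 (this x.2)

theorem c1920 (x : KK) (hx : orderOf x = 2) : Nat.card (centralizer {x}) = 1920 := by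
  obtain ⟨h1, t, ht, Q, _, -, h2, -, -, ⟨e⟩⟩ := invol hh (MulEquiv.refl _)
  refine (J2T.card_Ce_conj (h1 _ _ ht hx)).trans ?_
  rw [J2T.Ce, card_eq_card_quotient_mul_card_subgroup Q,
    Nat.card_congr e.toEquiv, JR.card_A5, h2]

theorem isoJ3 : Spor.IsoJ3 KK :=
  let ⟨e⟩ := (equiv hh).2
  ⟨F4, _, _, el4 2, card_F4, by decide, ⟨e.symm⟩⟩

end Mod

open J2T in
theorem main {G : Type*} [Group G] [Finite G] [IsSimpleGroup G] {t : G} (ht : orderOf t = 2)
    {Q : Subgroup (centralizer ({t} : Set G))} [Q.Normal] (hQ : IsExtraspecial 2 Q)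
    (hcard : Nat.card Q = 32) (h2c : centralizer (Q : Set (centralizer ({t} : Set G))) ≤ Q)
    (e : centralizer ({t} : Set G) ⧸ Q ≃* alternatingGroup (Fin 5))
    (hone : ∀ x y : G, orderOf x = 2 → orderOf y = 2 → IsConj x y) : Nonempty (Mod.KK ≃* G) := by
  obtain ⟨Q', π, h, sur, ker⟩ := jw_of ht hQ hcard h2c e
  obtain ⟨g, hI, hR, e0⟩ := h.rel sur ker hone
  haveI := H16.J3.simple Mod.hh
  obtain ⟨f, hf⟩ := emb Mod.inv0 Mod.sat0 Mod.top Mod.cen (H16.J3.card Mod.hh) hI hR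
    (e0 ▸ h.ne_one)
  obtain ⟨k, k1, k2⟩ := h.nwc sur ker
  exact ⟨MulEquiv.ofBijective f ⟨hf, onto hf (H16.J3.card Mod.hh)
    (H16.J3.invol Mod.hh (MulEquiv.refl _)).1 Mod.c1920
    (fun x hx => (card_Ce_conj (hone _ _ ht hx)).trans h.ch)
    ⟨t, _, h.ne_one, by simpa using h.ne_one, k2.symm, h.zz, by rw [conj_mul, h.zz]; simp,
      (h.cent _ k1).symm⟩⟩⟩

end Cfsg.Agent.J3T
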