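import Cfsg.Agent.J3T.M
import Cfsg.Agent.S0981
import Cfsg.Agent.H19.GL2Ord

/-! The subgroup `SL₂(16):2` of `J₃`. -/

set_option autoImplicit false
set_option maxRecDepth 100000
set_option Elab.async false

namespace Cfsg.Agent.J3T

open H17 Subgroup J2T H10

theorem triv {Q : Type*} [Group Q] {n : ℕ → Q} (hI : Inv 2 n) (hR : Sat n L16.R0)
    (e : n 1 * n 2 * n 0 = 1) : n 0 = 1 ∧ n 1 = 1 ∧ n 2 = 1 ∧ n 3 = 1 := by
  have a0 : n 0 = (n 0)⁻¹ := hI 0
  have a1 : n 1 = (n 1)⁻¹ := hI 1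
  have a3 : n 3 = (n 2)⁻¹ := hI 2
  simp only [Sat, L16.R0, List.forall_mem_cons, ev_cons, ev_nil, mul_one] at hR
  obtain ⟨-, -, r3, r4, -⟩ := hR
  rw [a3] at r4 ⊢
  generalize n 0 = a, n 1 = v, n 2 = h at *
  have aa := mul_eq_one_iff_eq_inv.2 a0
  have vv := mul_eq_one_iff_eq_inv.2 a1
  have b1 : v * a = h := by
    rw [a0, ← eq_inv_of_mul_eq_one_left e, ← mul_assoc, vv, one_mul]
  have b2 : h * h * h = 1 := by rw [← b1, ← r3]; simp only [mul_assoc]
  have b3 : a = 1 := by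
    calc a = a * h * (a * a) * h⁻¹ := by rw [aa]; group
      _ = a * (h * (a * (h * h * h * (a * (h⁻¹ * (h * h * h)⁻¹))))) := by rw [b2]; group
      _ = 1 := by rw [← r4]; group
  have b4 : v = h := by rw [← b1, b3, mul_one]
  rw [b4] at vv
  rw [vv, one_mul] at b2
  simp [b3, b4, b2]

theorem l16 {G : Type*} [Group G] [Finite G] {n : ℕ → G} {w b : G} (hI : Inv 2 n)
    (hR : Sat n L16.R0) (big : ∀ x, 4 ≤ x → n x = 1)
    (c1 : ∀ j < 15, j ≠ 0 → n 2 ^ j * n 0 ≠ n 0 * n 2 ^ j)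
    (c2 : ∀ j < 15, Commute (n 0) (n 2 ^ j * n 0 * (n 2 ^ j)⁻¹)) (hb : n 1 * n 2 * n 0 = b)
    (ob : orderOf b = 17) (c3 : ¬ Commute b (n 2 * b * (n 2)⁻¹))
    (c4 : ∀ i : G, orderOf i = 2 → Nat.card (centralizer {i}) = 1920) (ww : w * w = 1)
    (w0 : w * n 0 * w⁻¹ = n 0) (w1 : w * n 1 * w⁻¹ = n 1) (w2 : w * n 2 * w⁻¹ = n 2 ^ 4) :
    ∃ (H : Subgroup G) (N : Subgroup H) (K : Type) (_ : Field K) (_ : Fintype K), N.Normal ∧
      N.index = 2 ∧ Fintype.card K = 16 ∧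
      Nonempty (N ≃* Matrix.SpecialLinearGroup (Fin 2) K) := by
  haveI : Fact (Nat.Prime 2) := ⟨Nat.prime_two⟩
  haveI : Fact (Nat.Prime 17) := ⟨by norm_num⟩
  have a0 : n 0 * n 0 = 1 := mul_eq_one_iff_eq_inv.2 (hI 0)
  have a3 : n 3 = (n 2)⁻¹ := hI 2
  have e0 : L16U0.σ = [[0], [1], [2], [3]] := by decide +kernel
  have hc := (L16.card0 hI hR).2
  have gen : ∀ H : Subgroup G, n 0 ∈ H → n 1 ∈ H → n 2 ∈ H → wgrp n L16U0.σ ≤ H :=
    fun H h0 h1 h2 => wgrp_le (by simp [e0, h0, h1, h2, a3])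
  have mem : ∀ x, n x ∈ wgrp n L16U0.σ := fun x => by
    by_cases hx : 4 ≤ x
    · rw [big x hx]; exact one_mem _
    have := mem_wgrp n (W := L16U0.σ) (u := [x]) (by
      rw [e0]; rcases (by omega : x = 0 ∨ x = 1 ∨ x = 2 ∨ x = 3) with e | e | e | e <;> simp [e])
    simpa using this
  generalize wgrp n L16U0.σ = N at hc gen mem
  have oh : orderOf (n 2) = 15 := (orderOf_eq_iff (by norm_num)).2 ⟨by
    rw [← hR _ List.mem_cons_self]
    simp only [ev_cons, ev_nil, pow_succ, mul_assoc, pow_zero, one_mul, mul_one],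
    fun j h1 h2 e => c1 j h1 h2.ne' (by rw [e, one_mul, mul_one])⟩
  have pw : ∀ y ∈ zpowers (n 2), ∃ j < 15, y = n 2 ^ j := fun y hy =>
    H16.exists_pow_of_mem (by norm_num) oh hy
  have b1 : (cls (zpowers (n 2)) (n 0)).ncard = 15 := by
    have := card_mul_cls (zpowers (n 2)) (n 0)
    rwa [show Ce (n 0) ⊓ zpowers (n 2) = ⊥ from eq_bot_iff.2 fun y hy => by
      obtain ⟨j, hj, rfl⟩ := pw y hy.2
      rw [by_contra fun e : ¬ j = 0 => c1 j hj e (mem_Ce.1 hy.1), pow_zero]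
      exact one_mem _, card_bot, one_mul, Nat.card_zpowers, oh] at this
  let A := closure (cls (zpowers (n 2)) (n 0))
  haveI b2 : IsMulCommutative A := isMulCommutative_closure (by
    rintro _ ⟨x, hx, rfl⟩ _ ⟨y, hy, rfl⟩
    obtain ⟨j, hj, e⟩ := pw _ (mul_mem (inv_mem hx) hy)
    have := c2 j hj
    rw [← e] at this
    calc _ = x * (n 0 * (x⁻¹ * y * n 0 * (x⁻¹ * y)⁻¹)) * x⁻¹ := by group
      _ = _ := by rw [this]; group)
  have cm : ∀ x ∈ A, ∀ y ∈ A, x * y = y * x := fun x hx y hy =>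
    congrArg Subtype.val (b2.1.1 ⟨x, hx⟩ ⟨y, hy⟩)
  have b3 : IsPGroup 2 A := fun ⟨x, hx⟩ => ⟨1, Subtype.ext (by
    change x ^ 2 = 1
    rw [sq]
    induction hx using closure_induction with
    | mem x hx => obtain ⟨y, -, rfl⟩ := hx; rw [conj_mul, a0]; simp
    | one => simp
    | mul x y hx hy e1 e2 =>
      rw [mul_assoc, ← mul_assoc y, ← cm x hx y hy, mul_assoc, e2, mul_one, e1]
    | inv x hx e => rw [← mul_inv_rev, e, inv_one])⟩
  have b4 : A ≤ N := (closure_le _).2 (by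
    rintro _ ⟨x, hx, rfl⟩
    have := zpowers_le.2 (mem 2) hx
    exact mul_mem (mul_mem this (mem 0)) (inv_mem this))
  have b5 : ∀ T : Subgroup G, IsPGroup 2 T → A ≤ T → ∃ k, 4 ≤ k ∧ Nat.card T = 2 ^ k :=
    fun T h1 h2 => by
      obtain ⟨k, hk⟩ := h1.exists_card_eq
      refine ⟨k, by_contra fun e => ?_, hk⟩
      have := Set.ncard_le_ncard (subset_closure.trans h2 : cls (zpowers (n 2)) (n 0) ⊆ T)
      rw [b1, ncard_coe, hk] at this
      have : k < 4 := by omega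
      interval_cases k <;> omega
  have hbN : b ∈ N := hb ▸ mul_mem (mul_mem (mem 1) (mem 2)) (mem 0)
  have cN : Nat.card N = 4080 := by
    obtain ⟨k, h1, h2⟩ := b5 A b3 le_rfl
    have d1 := (pow_dvd_pow 2 h1).trans (h2 ▸ card_dvd_of_le b4)
    have d2 := oh ▸ N.orderOf_dvd_natCard (mem 2)
    have d3 := ob ▸ N.orderOf_dvd_natCard hbN
    have d4 : 0 < Nat.card N := Nat.card_pos
    omega
  have hC : ∀ g ∈ N, g * b = b * g → g ∈ zpowers b := fun g hg e => by
    have d1 := syl_mod (syl_zp hbN ob (by rw [cN]; norm_num))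
    have d2 := H1.card_inf_mul_relIndex (normalizer (zpowers b : Set G)) N
    have d3 : zpowers b ≤ Ce b ⊓ N := zpowers_le.2 ⟨mem_Ce.2 rfl, hbN⟩
    have d4 := card_dvd_of_le (show Ce b ⊓ N ≤ normalizer (zpowers b : Set G) ⊓ N from
      inf_le_inf_right _ ((centralizer_zpowers b).ge.trans (centralizer_le_normalizer _)))
    have d5 := card_dvd_of_le d3
    have d6 : ¬ 2 ∣ Nat.card (Ce b ⊓ N : Subgroup G) := fun e => by
      obtain ⟨i, hi, e⟩ := exists_ord Nat.prime_two e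
      have := (Ce i).orderOf_dvd_natCard (mem_Ce.2 (mem_Ce.1 hi.1).symm)
      rw [ob, c4 i e] at this
      omega
    have d7 : (normalizer (zpowers b : Set G)).relIndex N ≠ 1 := fun e => by
      obtain ⟨j, e⟩ := (relIndex_eq_one.1 e (mem 2) b).1 (mem_zpowers b)
      exact c3 (e ▸ Commute.zpow_right rfl j)
    rw [Nat.card_zpowers, ob] at d5
    obtain ⟨c, d8⟩ := d5.trans d4
    rw [d8, cN] at d2
    have d9 : c = 2 := by
      generalize (normalizer (zpowers b : Set G)).relIndex N = r at d1 d2 d7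
      have : r ∣ 240 := ⟨c, by linarith⟩
      have := Nat.le_of_dvd (by norm_num) this
      interval_cases r <;> omega
    rw [d8, d9] at d4
    have := Nat.le_of_dvd (by norm_num) d4
    exact (eq_of_le_of_card_ge d3 (by rw [Nat.card_zpowers, ob]; omega)).ge ⟨mem_Ce.2 e, hg⟩
  haveI : IsSimpleGroup N := H16.simple_of_selfcent0 (a := ⟨b, hbN⟩) (p := 17) (m := 240) Fact.out
    (ob ▸ orderOf_mk b hbN) (fun g e => let ⟨i, hi⟩ := hC g g.2 (congrArg Subtype.val e)
      ⟨i, Subtype.ext (by simpa using hi)⟩) cN (by norm_num)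
    (H16.numer_of [2, 3, 5] 8 (by simp) (by norm_num) (by norm_num) (by decide +kernel))
    fun M _ hM => by
      have d := triv (n := fun x => QuotientGroup.mk' M ⟨n x, mem x⟩)
        (Inv.map _ (fun _ => rfl) fun x => Subtype.ext (hI x))
        (Sat.map _ (fun _ => rfl) fun r hr => Subtype.ext
          ((map_ev N.subtype _ r).trans (hR r hr))) (by
          rw [← map_mul, ← map_mul]
          exact (QuotientGroup.eq_one_iff _).2 (by subst hb; exact hM))
      have k : ∀ x, QuotientGroup.mk' M ⟨n x, mem x⟩ = 1 → n x ∈ M.map N.subtype := fun x e =>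
        ⟨_, (QuotientGroup.eq_one_iff _).1 e, rfl⟩
      exact eq_top_iff.2 fun x _ => (mem_map_iff_mem N.subtype_injective).1
        (gen _ (k 0 d.1) (k 1 d.2.1) (k 2 d.2.2.1) x.2)
  have pwN : IsPGroup 2 (zpowers w) := pgrp_zp (by rw [sq, ww])
  have wA : w ∈ normalizer (A : Set G) := mem_normalizer_of_conj_le fun x hx =>
    (closure_le (A.comap (MulAut.conj w).toMonoidHom)).2 (by
      rintro _ ⟨_, ⟨j, rfl⟩, rfl⟩
      refine subset_closure ⟨_, zpow_mem (pow_mem (mem_zpowers (n 2)) 4) j, ?_⟩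
      change _ = w * (n 2 ^ j * n 0 * (n 2 ^ j)⁻¹) * w⁻¹
      rw [← w2, conj_zpow]
      nth_rw 1 [← w0]
      group) hx
  have wN : w ∉ N := fun e => by
    obtain ⟨k, h1, h2⟩ := b5 _ (b3.to_sup_of_normal_left' pwN (zpowers_le.2 wA)) le_sup_left
    obtain ⟨l, h3, h4⟩ := b5 A b3 le_rfl
    have d1 := card_dvd_of_le (sup_le b4 (zpowers_le.2 e))
    rw [h2, cN] at d1
    have d2 : k = 4 := by_contra fun e => by
      have := (pow_dvd_pow 2 (show 5 ≤ k by omega)).trans d1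
      omega
    have d3 := cm w ((eq_of_le_of_card_ge le_sup_left (by
      rw [h2, h4, d2]; exact Nat.pow_le_pow_right (by norm_num) h3)).ge
        (mem_sup_right (mem_zpowers w))) _ (subset_closure ⟨_, mem_zpowers _, rfl⟩)
    refine c1 3 (by norm_num) (by norm_num) ?_
    calc _ = (n 2)⁻¹ * (n 2 ^ 4 * n 0 * (n 2 ^ 4)⁻¹) * n 2 ^ 4 := by group
      _ = (n 2)⁻¹ * (w * (n 2 * n 0 * (n 2)⁻¹) * w⁻¹) * n 2 ^ 4 := by
        rw [← conj_mul (b := w), ← conj_mul (b := w), ← conj_inv, w2, w0]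
      _ = _ := by rw [d3]; group
  have wn : zpowers w ≤ normalizer (N : Set G) := zpowers_le.2 (mem_normalizer_of_conj_le
    fun x hx => gen (N.comap (MulAut.conj w).toMonoidHom) (show w * n 0 * w⁻¹ ∈ N from w0.symm ▸ mem 0)
      (show w * n 1 * w⁻¹ ∈ N from w1.symm ▸ mem 1)
      (show w * n 2 * w⁻¹ ∈ N from w2.symm ▸ pow_mem (mem 2) 4) hx)
  have ow : orderOf w = 2 := orderOf_eq_prime (by rw [sq, ww]) fun e => wN (e ▸ one_mem _)
  have d1 := H1.card_sup_of_disjoint wn (eq_bot_iff.2 fun x hx => by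
    obtain ⟨j, hj, rfl⟩ := H16.exists_pow_of_mem (by norm_num) ow hx.2
    interval_cases j
    · simp
    · exact absurd (by simpa using hx.1) wN)
  have d2 := H1.card_mul_relIndex (le_sup_left : N ≤ N ⊔ zpowers w)
  rw [d1, Nat.card_zpowers, ow] at d2
  letI := Fintype.ofFinite (GaloisField 2 4)
  have d3 : Fintype.card (GaloisField 2 4) = 16 :=
    Nat.card_eq_fintype_card.symm.trans (GaloisField.card 2 4 (by norm_num))
  obtain ⟨f⟩ := S0981.result cN d3
  obtain ⟨f'⟩ := H19.nonempty_PSL2_equiv_SL2 (F := GaloisField 2 4)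
  exact ⟨N ⊔ zpowers w, N.subgroupOf _, GaloisField 2 4, _, _,
    normal_subgroupOf_of_le_normalizer (sup_le le_normalizer wn),
    Nat.eq_of_mul_eq_mul_left Nat.card_pos d2, d3,
    ⟨(subgroupOfEquivOfLe le_sup_left).trans (f.trans f')⟩⟩

theorem ev_rep {G : Type*} [Group G] (g : ℕ → G) (x : ℕ) : ∀ j, ev g (List.replicate j x) = g x ^ j
  | 0 => by simp
  | j + 1 => by rw [List.replicate_succ, ev_cons, ev_rep g x j, pow_succ']

def u1 (j : ℕ) : List ℕ := List.replicate j 2 ++ [0]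
def u2 (j : ℕ) : List ℕ := 0 :: (List.replicate j 2 ++ 0 :: List.replicate j 3)
def u3 (j : ℕ) : List ℕ := List.replicate j 2 ++ 0 :: (List.replicate j 3 ++ [0])

theorem ev_u {G : Type*} [Group G] (g : ℕ → G) (j : ℕ) : ev g (u1 j) = g 2 ^ j * g 0 ∧
    ev g (u2 j) = g 0 * (g 2 ^ j * g 0 * g 3 ^ j) ∧ ev g (u3 j) = g 2 ^ j * g 0 * g 3 ^ j * g 0 := by
  simp [u1, u2, u3, ev_rep, mul_assoc]

namespace Mod

open H16 H16.J3 H16.Mdl

def wd : List (List ℕ) := [[0, 1], [6, 1, 2, 3, 2, 3, 4, 1, 6, 2, 3, 2, 3, 4, 1, 6, 2, 3, 2, 3, 2, 3,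
  1, 2, 3, 1, 2, 3, 1, 2, 8, 4, 1], [5, 8, 3, 5, 4, 6], [5, 4, 6, 3, 7, 6], [3], [3]]

noncomputable def n : ℕ → KK := H17.sub wd m

noncomputable def n' : ℕ → KK := H17.sub (wd.take 4) m

theorem satn {W R : List (List ℕ)}
    (h : R.all (fun r => isOne o (evM o S1 (substW W r))) = true) : Sat (H17.sub W m) R :=
  fun r hr => by
    rw [ev_sub]
    exact Subtype.ext (isOne_spec (r1 _) (List.all_eq_true.1 h r hr))

theorem nen {u v : List ℕ} (h : neB o pts (evM o S1 (substW wd u)) (evM o S1 (substW wd v)) = true) :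
    ev n u ≠ ev n v := by
  rw [n, ev_sub, ev_sub]; exact ne h

theorem eqn {u v : List ℕ} (h : o.eqb (evM o S1 (substW wd u)) (evM o S1 (substW wd v)) = true) :
    ev n u = ev n v := by
  rw [n, ev_sub, ev_sub]; exact Subtype.ext ((M hh).eq_of (r1 _) (r1 _) h)

theorem invn : Inv 2 n' := inv_of_sat (nc := 4) rfl (by decide) (fun x hx => by
  obtain ⟨y, rfl⟩ := Nat.exists_eq_add_of_le' hx
  rfl) (satn (by decide +kernel))

theorem sl16 : ∃ (H : Subgroup KK) (N : Subgroup H) (K : Type) (_ : Field K) (_ : Fintype K),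
    N.Normal ∧ N.index = 2 ∧ Fintype.card K = 16 ∧
      Nonempty (N ≃* Matrix.SpecialLinearGroup (Fin 2) K) := by
  have a0 : n' 0 = n 0 := rfl
  have a1 : n' 1 = n 1 := rfl
  have a2 : n' 2 = n 2 := rfl
  have a3 : n 3 = (n 2)⁻¹ := invn 2
  have a5 : n 4 * n 4 = 1 := by simpa using eqn (u := [4, 4]) (v := []) (by decide +kernel)
  have a6 := eq_inv_of_mul_eq_one_left a5
  haveI : Fact (Nat.Prime 17) := ⟨by norm_num⟩
  refine l16 (n := n') (w := n 4) invn (satn (by decide +kernel)) (fun x hx => by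
    obtain ⟨y, rfl⟩ := Nat.exists_eq_add_of_le' hx
    rfl) (fun j h1 h2 => ?_) (fun j h1 => ?_) rfl (orderOf_eq_prime ?_ ?_) ?_ c1920 a5 ?_ ?_ ?_
  all_goals simp only [a0, a1, a2]
  · rw [← (ev_u n j).1, ← ev_rep, ← ev_cons]
    exact nen (by revert j; decide +kernel)
  · rw [← inv_pow, ← a3]
    rw [commute_iff_eq, ← (ev_u n j).2.1, ← (ev_u n j).2.2]
    exact eqn (by revert j; decide +kernel)
  · have := eqn (u := (List.replicate 17 [1, 2, 0]).flatten) (v := []) (by decide +kernel)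
    simp only [List.replicate, List.flatten_cons, List.flatten_nil, ev_append, ev_cons, ev_nil,
      mul_one] at this
    simp only [pow_succ', pow_zero, mul_one]
    simpa only [mul_assoc] using this
  · simpa [mul_assoc] using nen (u := [1, 2, 0]) (v := []) (by decide +kernel)
  · rw [← a3]
    simpa only [mul_assoc, commute_iff_eq, ev_cons, ev_nil, mul_one] using nen
      (u := [1, 2, 0, 2, 1, 2, 0, 3]) (v := [2, 1, 2, 0, 3, 1, 2, 0]) (by decide +kernel)
  · rw [← a6]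
    simpa [mul_assoc] using eqn (u := [4, 0, 4]) (v := [0]) (by decide +kernel)
  · rw [← a6]
    simpa [mul_assoc] using eqn (u := [4, 1, 4]) (v := [1]) (by decide +kernel)
  · rw [← a6]
    simpa [mul_assoc, pow_succ] using eqn (u := [4, 2, 4]) (v := [2, 2, 2, 2]) (by decide +kernel)

end Mod

theorem sl16_of {G G' : Type*} [Group G] [Group G'] (f : G ≃* G')
    (h : ∃ (H : Subgroup G) (N : Subgroup H) (K : Type) (_ : Field K) (_ : Fintype K),
      N.Normal ∧ N.index = 2 ∧ Fintype.card K = 16 ∧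
        Nonempty (N ≃* Matrix.SpecialLinearGroup (Fin 2) K)) :
    ∃ (H : Subgroup G') (N : Subgroup H) (K : Type) (_ : Field K) (_ : Fintype K),
      N.Normal ∧ N.index = 2 ∧ Fintype.card K = 16 ∧
        Nonempty (N ≃* Matrix.SpecialLinearGroup (Fin 2) K) := by
  obtain ⟨H, N, K, i1, i2, h1, h2, h3, ⟨g⟩⟩ := h
  have e : H ≃* H.map (f : G →* G') := f.subgroupMap H
  generalize H.map (f : G →* G') = H' at e
  exact ⟨H', N.map (e : H →* H'), K, i1, i2, h1.map _ e.surjective,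
    (index_map_equiv N e).trans h2, h3, ⟨(e.subgroupMap N).symm.trans g⟩⟩

end Cfsg.Agent.J3T
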